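import Cfsg.Agent.Lib.Char.CyclicTI.Family

/-!
# Existence of a cyclic TI family; functions with few non-zero coefficients
-/

set_option linter.style.haveILetI false

namespace Cfsg.Agent.Char.CyclicTI

open scoped ComplexConjugate
open Cfsg.Agent.Char

universe u

theorem share_of_dot {X : Type*} [Fintype X] [DecidableEq X] {v w : X → ℤ} {d : X → ℤ}
    (hd : ∀ e, 0 < d e) (hv : Grid.dot v v = 3) (hw : Grid.dot w w = 3) (h : Grid.dot v w = 1)
    (hdeg : ∑ e, v e * d e = ∑ e, w e * d e) : Grid.Share v w := by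
  classical
  have hval : ∀ e, v e * w e = -1 ∨ v e * w e = 0 ∨ v e * w e = 1 := fun e => by
    rcases Grid.val_cases hv e with h1 | h1 | h1 <;> rcases Grid.val_cases hw e with h2 | h2 | h2 <;>
      simp [h1, h2]
  set P := Finset.univ.filter fun e => v e * w e = 1
  set N := Finset.univ.filter fun e => v e * w e = -1
  have hdot : Grid.dot v w = (P.card : ℤ) - N.card := by
    simp only [Grid.dot, P, N, Finset.card_filter, Nat.cast_sum, ← Finset.sum_sub_distrib]
    refine Finset.sum_congr rfl fun e _ => ?_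
    rcases hval e with h1 | h1 | h1 <;> simp [h1]
  have hdisj : Disjoint P N := Finset.disjoint_filter.mpr fun e _ h1 h2 => by omega
  have hsubv : P ∪ N ⊆ Grid.supp v := fun e he => by
    rw [Grid.mem_supp]; intro h0
    simp [P, N, h0] at he
  have hsubw : P ∪ N ⊆ Grid.supp w := fun e he => by
    rw [Grid.mem_supp]; intro h0
    simp [P, N, h0] at he
  have hcard : P.card + N.card ≤ 3 := by
    rw [← Finset.card_union_of_disjoint hdisj, ← Grid.card_supp hv]
    exact Finset.card_le_card hsubv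
  rcases Nat.eq_zero_or_pos N.card with hN | hN
  · have hP : P.card = 1 := by omega
    obtain ⟨e, he⟩ := Finset.card_eq_one.mp hP
    have heP : v e * w e = 1 := (Finset.mem_filter.mp (he ▸ Finset.mem_singleton_self e : e ∈ P)).2
    refine ⟨e, ?_, left_ne_zero_of_mul_eq_one heP, fun f hf => ?_⟩
    · rcases Grid.val_cases hv e with h1 | h1 | h1 <;> rcases Grid.val_cases hw e with h2 | h2 | h2 <;>
        simp [h1, h2] at heP ⊢
    · rcases hval f with h1 | h1 | h1
      · exact absurd (Finset.mem_filter.mpr ⟨Finset.mem_univ _, h1⟩ : f ∈ N)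
          (fun h' => (Finset.card_pos.mpr ⟨f, h'⟩).ne' hN)
      · exact mul_eq_zero.mp h1
      · exact absurd (Finset.mem_filter.mpr ⟨Finset.mem_univ _, h1⟩ : f ∈ P)
          (fun h' => hf (Finset.mem_singleton.mp (he ▸ h')))
  · exfalso
    have hN1 : N.card = 1 := by omega
    have hU : (P ∪ N).card = 3 := by rw [Finset.card_union_of_disjoint hdisj]; omega
    have ev := Finset.eq_of_subset_of_card_le hsubv (by rw [hU, Grid.card_supp hv])
    have ew := Finset.eq_of_subset_of_card_le hsubw (by rw [hU, Grid.card_supp hw])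
    obtain ⟨e, he⟩ := Finset.card_eq_one.mp hN1
    have heN : v e * w e = -1 := (Finset.mem_filter.mp (he ▸ Finset.mem_singleton_self e : e ∈ N)).2
    have hsame : ∀ f, f ≠ e → v f = w f := by
      intro f hf
      by_cases hm : f ∈ P ∪ N
      · rcases Finset.mem_union.mp hm with h1 | h1
        · have := (Finset.mem_filter.mp h1).2
          rcases Grid.val_cases hv f with a | a | a <;> rcases Grid.val_cases hw f with b | b | b <;>
            simp [a, b] at this ⊢
        · rw [he, Finset.mem_singleton] at h1; exact absurd h1 hf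
      · have h1 : f ∉ Grid.supp v := ev ▸ hm
        have h2 : f ∉ Grid.supp w := ew ▸ hm
        rw [Grid.mem_supp, not_not] at h1 h2
        rw [h1, h2]
    have : ∑ f, (v f - w f) * d f = 0 := by
      simp only [sub_mul, Finset.sum_sub_distrib, hdeg, sub_self]
    rw [Finset.sum_eq_single e (fun f _ hf => by rw [hsame f hf, sub_self, zero_mul]) (by simp)]
      at this
    rcases mul_eq_zero.mp this with h1 | h1
    · rw [sub_eq_zero] at h1
      rw [← h1] at heN
      linarith [mul_self_nonneg (v e)]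
    · linarith [hd e]

variable {G : Type u} [Group G] [Fintype G] {W₁ W₂ : Subgroup G}

theorem odd_cards (hW : Cfsg.IsSelfNormalizingCyclic W₁ W₂)
    (hodd : Odd (Nat.card ↥(W₁ ⊔ W₂))) :
    3 ≤ Nat.card W₁ ∧ 3 ≤ Nat.card W₂ ∧ Odd (Nat.card W₁) ∧ Odd (Nat.card W₂) ∧
      Nat.card W₁ ≠ Nat.card W₂ := by
  have h1 : Odd (Nat.card W₁) := hodd.of_dvd_nat (Subgroup.card_dvd_of_le le_sup_left)
  have h2 : Odd (Nat.card W₂) := hodd.of_dvd_nat (Subgroup.card_dvd_of_le le_sup_right)
  have g1 : 1 < Nat.card W₁ := (Subgroup.one_lt_card_iff_ne_bot W₁).mpr hW.1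
  have g2 : 1 < Nat.card W₂ := (Subgroup.one_lt_card_iff_ne_bot W₂).mpr hW.2.1
  obtain ⟨a, ha⟩ := h1
  obtain ⟨b, hb⟩ := h2
  refine ⟨by omega, by omega, ⟨a, ha⟩, ⟨b, hb⟩, fun he => hW.1 ?_⟩
  haveI := hW.2.2.2.2.1
  have hsub : W₁ ≤ W₂ := fun x hx => by
    have hxW : x ∈ W₁ ⊔ W₂ := le_sup_left (b := W₂) hx
    have := (mem_iff_pow (W₂.subgroupOf (W₁ ⊔ W₂)) ⟨x, hxW⟩).mpr (by
      rw [Nat.card_congr (Subgroup.subgroupOfEquivOfLe le_sup_right).toEquiv, ← he]
      exact Subtype.ext (congrArg Subtype.val (pow_card_eq_one' (x := (⟨x, hx⟩ : W₁))) :))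
    exact Subgroup.mem_subgroupOf.mp this
  rw [← inf_eq_left.mpr hsub]
  exact hW.2.2.1

theorem exists_family (hW : Cfsg.IsSelfNormalizingCyclic W₁ W₂)
    (hodd : Odd (Nat.card ↥(W₁ ⊔ W₂))) :
    ∃ χ : (↥(W₁ ⊔ W₂) →* ℂˣ) → (G → ℂ), Cfsg.IsCyclicTIFamily W₁ W₂ χ := by
  classical
  have S := split_of hW
  haveI := isMulCommutative1 hW
  haveI := isMulCommutative2 hW
  haveI : Fintype ↥(W₁ ⊔ W₂) := Fintype.ofFinite _
  haveI := finite_dual W₁
  haveI := finite_dual W₂
  haveI : Fintype (W₁ →* ℂˣ) := Fintype.ofFinite _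
  haveI : Fintype (W₂ →* ℂˣ) := Fintype.ofFinite _
  let I := {f : W₁ →* ℂˣ // f ≠ 1}
  let J := {g : W₂ →* ℂˣ // g ≠ 1}
  obtain ⟨c1, c2, o1, o2, hne⟩ := odd_cards hW hodd
  have hI : Fintype.card I = Nat.card W₁ - 1 := by
    rw [Fintype.card_subtype_compl, Fintype.card_subtype_eq, ← Nat.card_eq_fintype_card, card_hom]
  have hJ : Fintype.card J = Nat.card W₂ - 1 := by
    rw [Fintype.card_subtype_compl, Fintype.card_subtype_eq, ← Nat.card_eq_fintype_card, card_hom]
  let al : I → J → ↥(W₁ ⊔ W₂) → ℂ := fun f g => alpha (pull1 S f.1) (pull2 S g.1)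
  have hvan : ∀ f g, ∀ w : ↥(W₁ ⊔ W₂), ((w : G) ∈ W₁ ∨ (w : G) ∈ W₂) → al f g w = 0 := fun f g =>
    alpha_vanish (pull1_apply_of_mem S f.1) (pull2_apply_of_mem S g.1)
  have hαgen : ∀ f g, Cfsg.IsGeneralizedCharacter ↥(W₁ ⊔ W₂) (al f g) := by
    intro f g
    show Cfsg.IsGeneralizedCharacter ↥(W₁ ⊔ W₂) (alpha (pull1 S f.1) (pull2 S g.1))
    rw [alpha_eq]
    have hl : ∀ a : ↥(W₁ ⊔ W₂) →* ℂˣ,
        Cfsg.IsGeneralizedCharacter ↥(W₁ ⊔ W₂) (fun w => (a w : ℂ)) := fun a =>
      IsGeneralizedCharacter.of_isCharacter (IsIrrCharacter.isCharacter (isIrrCharacter_linear a))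
    exact IsGeneralizedCharacter.add
      (IsGeneralizedCharacter.sub (IsGeneralizedCharacter.sub (hl _) (hl _)) (hl _)) (hl _)
  let β : I → J → G → ℂ := fun f g => Cfsg.indFun (W₁ ⊔ W₂) (al f g) - fun _ => 1
  have hβgen : ∀ f g, Cfsg.IsGeneralizedCharacter G (β f g) := fun f g =>
    IsGeneralizedCharacter.sub (IsGeneralizedCharacter.indFun _ (hαgen f g))
      (IsGeneralizedCharacter.of_isCharacter isCharacter_one)
  choose v hveq hvc using fun f g => IsGeneralizedCharacter.exists_coeff (hβgen f g)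
  have hind1 : ∀ f g, Cfsg.classInner (Cfsg.indFun (W₁ ⊔ W₂) (al f g)) (fun _ : G => (1 : ℂ)) = 1 := by
    intro f g
    rw [classInner_indFun_left _ _ (fun _ _ => rfl), ← classInner_conj_symm]
    rw [show Cfsg.classInner (fun _ : ↥(W₁ ⊔ W₂) => (1 : ℂ)) (al f g) = 1 from
      classInner_one_alpha S f.2 g.2, map_one]
  have h11 : Cfsg.classInner (fun _ : G => (1 : ℂ)) (fun _ => 1) = 1 :=
    classInner_self_irr isIrrCharacter_one
  have hdot : ∀ f g f' g', (Grid.dot (v f g) (v f' g') : ℂ) =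
      (1 + if f = f' then 1 else 0) * (1 + if g = g' then 1 else 0) - 1 := by
    intro f g f' g'
    have e1 : Cfsg.classInner (β f g) (β f' g') = (Grid.dot (v f g) (v f' g') : ℂ) := by
      rw [hveq f g, hveq f' g', classInner_combination₂, Grid.dot]
      push_cast
      exact Finset.sum_congr rfl fun e _ => by simp
    rw [← e1]
    simp only [β, classInner_sub_left, classInner_sub_right, hind1, h11]
    rw [← classInner_conj_symm (Cfsg.indFun (W₁ ⊔ W₂) (al f' g')) (fun _ : G => (1 : ℂ)), hind1,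
      map_one, classInner_indFun hW (hvan f g) (hvan f' g'),
      classInner_alpha_alpha S f.2 f'.2 g.2 g'.2]
    simp [Subtype.coe_inj]
  have hnorm : ∀ f g, Grid.dot (v f g) (v f g) = 3 := fun f g => by
    have := hdot f g f g; norm_num at this; exact_mod_cast this
  have hv0 : ∀ f g, v f g (principal G) = 0 := fun f g => by
    have h := hvc f g (principal G)
    simp only [β, classInner_sub_left, principal, hind1, h11, sub_self] at h
    exact_mod_cast h.symm
  choose d hd0 hd using fun ψ : Cfsg.IrrCharacter G => IsIrrCharacter.exists_degree ψ.2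
  have hdeg : ∀ f g, ∑ e, v f g e * (d e : ℤ) = -1 := by
    intro f g
    have h := congrFun (hveq f g) 1
    simp only [β, Pi.sub_apply, indFun_one_apply, al, alpha_one, mul_zero, zero_sub,
      Finset.sum_apply, Pi.smul_apply, smul_eq_mul, hd] at h
    exact_mod_cast h.symm
  have hgrid : Grid.IsGrid v := by
    refine ⟨hnorm, fun f g g' hg => ?_, fun f f' g hf => ?_, fun f f' g g' hf hg => ?_⟩
    · refine share_of_dot (d := fun e => (d e : ℤ)) (fun e => by exact_mod_cast hd0 e)
        (hnorm f g) (hnorm f g') ?_ (by rw [hdeg, hdeg])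
      have := hdot f g f g'
      norm_num [hg] at this
      exact_mod_cast this
    · refine share_of_dot (d := fun e => (d e : ℤ)) (fun e => by exact_mod_cast hd0 e)
        (hnorm f g) (hnorm f' g) ?_ (by rw [hdeg, hdeg])
      have := hdot f g f' g
      norm_num [hf] at this
      exact_mod_cast this
    · have := hdot f g f' g'
      norm_num [hf, hg] at this
      exact_mod_cast this
  obtain ⟨a1, ha1⟩ := o1
  obtain ⟨a2, ha2⟩ := o2
  obtain ⟨x, y, z, sx, sy, sz, hinj, hsx, hsy, hsz, hzero, hval⟩ :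
      ∃ (x : I → Cfsg.IrrCharacter G) (y : J → Cfsg.IrrCharacter G)
        (z : I × J → Cfsg.IrrCharacter G) (sx : I → ℤ) (sy : J → ℤ) (sz : I × J → ℤ),
        Function.Injective (Sum.elim x (Sum.elim y z)) ∧
        (∀ i, sx i * sx i = 1) ∧ (∀ j, sy j * sy j = 1) ∧ (∀ p, sz p * sz p = 1) ∧
        (∀ i j f, f ≠ x i → f ≠ y j → f ≠ z (i, j) → v i j f = 0) ∧
        (∀ i j, v i j (x i) = sx i ∧ v i j (y j) = sy j ∧ v i j (z (i, j)) = sz (i, j)) := by
    rcases Nat.lt_or_ge (Fintype.card J) 4 with hlt | hge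
    · obtain ⟨y, x, z, sy, sx, sz, hinj, hsy, hsx, hsz, hzero, hval⟩ :=
        hgrid.swap.exists_split (by omega) (by omega) (by omega)
      refine ⟨x, y, fun p => z p.swap, sx, sy, fun p => sz p.swap, ?_, hsx, hsy,
        fun p => hsz p.swap, fun i j f h1 h2 h3 => hzero j i f h2 h1 h3,
        fun i j => ⟨(hval j i).2.1, (hval j i).1, (hval j i).2.2⟩⟩
      let sw : I ⊕ (J ⊕ I × J) → J ⊕ (I ⊕ J × I) :=
        Sum.elim (fun i => Sum.inr (Sum.inl i))
          (Sum.elim Sum.inl (fun p => Sum.inr (Sum.inr p.swap)))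
      have hsw : Function.Injective sw := by
        rintro (a | a | a) (b | b | b) h <;> simp [sw, Prod.swap_inj] at h ⊢ <;> exact h
      have e : Sum.elim x (Sum.elim y fun p => z p.swap) = Sum.elim y (Sum.elim x z) ∘ sw := by
        funext q; rcases q with a | a | a <;> rfl
      rw [e]
      exact hinj.comp hsw
    · exact hgrid.exists_split (by omega) hge (by omega)
  have hxne : ∀ i, x i ≠ principal G := fun i h => by
    obtain ⟨j⟩ : Nonempty J := Fintype.card_pos_iff.mp (by omega)
    have := (hval i j).1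
    rw [h, hv0] at this
    exact absurd (hsx i) (by simp [← this])
  have hyne : ∀ j, y j ≠ principal G := fun j h => by
    obtain ⟨i⟩ : Nonempty I := Fintype.card_pos_iff.mp (by omega)
    have := (hval i j).2.1
    rw [h, hv0] at this
    exact absurd (hsy j) (by simp [← this])
  have hzne : ∀ p, z p ≠ principal G := fun p h => by
    have := (hval p.1 p.2).2.2
    rw [h, hv0] at this
    exact absurd (hsz p) (by simp [← this])
  -- index and sign of the member attached to a pair
  let code : (W₁ →* ℂˣ) × (W₂ →* ℂˣ) → Option (I ⊕ (J ⊕ I × J)) := fun p =>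
    if hf : p.1 = 1 then (if hg : p.2 = 1 then none else some (Sum.inr (Sum.inl ⟨p.2, hg⟩)))
    else (if hg : p.2 = 1 then some (Sum.inl ⟨p.1, hf⟩)
      else some (Sum.inr (Sum.inr (⟨p.1, hf⟩, ⟨p.2, hg⟩))))
  let decode : Option (I ⊕ (J ⊕ I × J)) → (W₁ →* ℂˣ) × (W₂ →* ℂˣ) := fun o =>
    o.elim (1, 1) (Sum.elim (fun i => (i.1, 1)) (Sum.elim (fun j => (1, j.1)) fun r => (r.1.1, r.2.1)))
  have hcode : Function.Injective code := by
    refine Function.LeftInverse.injective (g := decode) fun p => ?_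
    simp only [code]
    split_ifs with h1 h2 h3 <;> simp only [decode, Option.elim, Sum.elim_inl, Sum.elim_inr] <;>
      refine Prod.ext ?_ ?_ <;> first | rfl | exact h1.symm | exact h2.symm | exact h3.symm
  let idx : Option (I ⊕ (J ⊕ I × J)) → Cfsg.IrrCharacter G := fun o =>
    o.elim (principal G) (Sum.elim x (Sum.elim y z))
  have hidx : Function.Injective idx := by
    intro o o' h
    rcases o with _ | o <;> rcases o' with _ | o' <;> simp only [idx, Option.elim] at h
    · rfl
    · rcases o' with a | a | a <;> simp only [Sum.elim_inl, Sum.elim_inr] at h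
      exacts [absurd h.symm (hxne a), absurd h.symm (hyne a), absurd h.symm (hzne a)]
    · rcases o with a | a | a <;> simp only [Sum.elim_inl, Sum.elim_inr] at h
      exacts [absurd h (hxne a), absurd h (hyne a), absurd h (hzne a)]
    · rw [hinj h]
  let sgn : Option (I ⊕ (J ⊕ I × J)) → ℤ := fun o =>
    o.elim 1 (Sum.elim (fun i => -sx i) (Sum.elim (fun j => -sy j) sz))
  have hsgn : ∀ o, sgn o * sgn o = 1 := by
    intro o
    rcases o with _ | a | a | a <;> simp [sgn, hsx, hsy, hsz]
  let χ : (↥(W₁ ⊔ W₂) →* ℂˣ) → (G → ℂ) := fun ω =>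
    (sgn (code ((dualEquiv S).symm ω)) : ℂ) • (idx (code ((dualEquiv S).symm ω)) : G → ℂ)
  have hone : ∀ w₁ : W₁ →* ℂˣ, ∀ w₂ : W₂ →* ℂˣ, χ (pull1 S w₁ * pull2 S w₂) =
      (sgn (code (w₁, w₂)) : ℂ) • (idx (code (w₁, w₂)) : G → ℂ) := fun w₁ w₂ => by
    have : (dualEquiv S).symm (pull1 S w₁ * pull2 S w₂) = (w₁, w₂) :=
      (dualEquiv S).symm_apply_apply (w₁, w₂)
    simp only [χ, this]
  have hirr : ∀ ω, SignIrr (χ ω) := fun ω => by
    rcases Int.eq_one_or_neg_one_of_mul_eq_one (hsgn (code ((dualEquiv S).symm ω))) with h | h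
    · left; simp only [χ, h, Int.cast_one, one_smul]; exact (idx _).2
    · right; simp only [χ, h, Int.cast_neg, Int.cast_one, neg_smul, one_smul, neg_neg]; exact (idx _).2
  have horth : ∀ ω ω', Cfsg.classInner (χ ω) (χ ω') = if ω = ω' then 1 else 0 := by
    intro ω ω'
    simp only [χ, classInner_smul_left, classInner_smul_right]
    by_cases h : ω = ω'
    · subst h
      rw [if_pos rfl, classInner_self_irr (idx _).2]
      simp only [map_intCast, mul_one]
      exact_mod_cast hsgn _
    · rw [if_neg h, classInner_irr_of_ne (idx _).2 (idx _).2, mul_zero, mul_zero]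
      intro e
      exact h ((dualEquiv S).symm.injective (hcode (hidx (Subtype.ext e))))
  have hmap1 : χ 1 = fun _ => 1 := by
    rw [← pull_one_one S, hone]
    simp [code, sgn, idx, principal]
  have hindeq : ∀ (f : I) (g : J),
      Cfsg.indFun (W₁ ⊔ W₂) (al f g) =
        χ 1 - χ (pull1 S f.1) - χ (pull2 S g.1) + χ (pull1 S f.1 * pull2 S g.1) := by
    intro f g
    rw [hmap1, ← pull_one_right S f.1, hone, ← pull_one_left S g.1, hone,
      pull_one_right S f.1, pull_one_left S g.1, hone]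
    simp only [code, dif_neg f.2, dif_neg g.2, dif_pos, Option.elim, sgn, idx, Sum.elim_inl,
      Sum.elim_inr]
    have hb : β f g = (sx f : ℂ) • (x f : G → ℂ) + (sy g : ℂ) • (y g : G → ℂ) +
        (sz (f, g) : ℂ) • (z (f, g) : G → ℂ) := by
      have h1 : x f ≠ y g := fun e => by
        have := hinj (a₁ := Sum.inl f) (a₂ := Sum.inr (Sum.inl g)) e; simp at this
      have h2 : x f ≠ z (f, g) := fun e => by
        have := hinj (a₁ := Sum.inl f) (a₂ := Sum.inr (Sum.inr (f, g))) e; simp at this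
      have h3 : y g ≠ z (f, g) := fun e => by
        have := hinj (a₁ := Sum.inr (Sum.inl g)) (a₂ := Sum.inr (Sum.inr (f, g))) e; simp at this
      rw [hveq f g, ← Finset.sum_subset (Finset.subset_univ
        ({x f, y g, z (f, g)} : Finset (Cfsg.IrrCharacter G))) (fun e _ he => by
          simp only [Finset.mem_insert, Finset.mem_singleton, not_or] at he
          rw [hzero f g e he.1 he.2.1 he.2.2, Int.cast_zero, zero_smul]),
        Finset.sum_insert (by simp [h1, h2]), Finset.sum_insert (by simp [h3]),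
        Finset.sum_singleton, (hval f g).1, (hval f g).2.1, (hval f g).2.2, add_assoc]
    rw [sub_eq_iff_eq_add.mp hb]
    push_cast
    module
  refine ⟨χ, hirr, fun ω ω' => by rw [horth]; by_cases h : ω = ω' <;> simp [h], hmap1, ?_, ?_⟩
  · intro ω w h1 h2
    have hz := zero_on_V S (F := fun w : ↥(W₁ ⊔ W₂) => χ ω w - (ω w : ℂ)) (fun f g => ?_) w h1 h2
    · exact sub_eq_zero.mp hz
    by_cases hf : f = 1
    · rw [hf, pull1_one, alpha_left_one, classInner_zero_right]
    by_cases hg : g = 1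
    · rw [hg, pull2_one, alpha_right_one, classInner_zero_right]
    rw [show (fun w : ↥(W₁ ⊔ W₂) => χ ω w - (ω w : ℂ)) =
      (fun w : ↥(W₁ ⊔ W₂) => χ ω w) - (fun w => (ω w : ℂ)) from rfl, classInner_sub_left,
      ← classInner_indFun_right (W₁ ⊔ W₂) _ (hirr ω).isClassFunction,
      show alpha (pull1 S f) (pull2 S g) = al ⟨f, hf⟩ ⟨g, hg⟩ from rfl, hindeq,
      classInner_add_right, classInner_sub_right, classInner_sub_right, horth, horth, horth, horth]
    show _ - Cfsg.classInner (fun w => (ω w : ℂ)) (alpha (pull1 S f) (pull2 S g)) = 0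
    rw [classInner_lin_alpha]
    ring
  · intro φ ψ hφ hψ hφ2 hψ1
    rw [hom_eq_pull1 S hφ2, hom_eq_pull2 S hψ1]
    have hf : φ.comp (inc1 W₁ W₂) ≠ 1 := fun h => hφ (by rw [hom_eq_pull1 S hφ2, h, pull1_one])
    have hg : ψ.comp (inc2 W₁ W₂) ≠ 1 := fun h => hψ (by rw [hom_eq_pull2 S hψ1, h, pull2_one])
    have := hindeq ⟨_, hf⟩ ⟨_, hg⟩
    rw [hmap1] at this
    refine Eq.trans ?_ this
    rfl

/-- An additive array with few non-zero entries is a single line. -/
theorem few_nonzero {A B : Type*} [Fintype A] [Fintype B] [DecidableEq A] [DecidableEq B] (hA : 3 ≤ Fintype.card A)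
    (hAB : Fintype.card A + 2 ≤ Fintype.card B) (f : A → ℂ) (g : B → ℂ)
    (hfew : Nat.card {p : A × B // f p.1 + g p.2 ≠ 0} < 2 * Fintype.card A) :
    (∀ p : A × B, f p.1 + g p.2 = 0) ∨
      (∃ (b₀ : B) (a : ℂ), ∀ i j, f i + g j = if j = b₀ then a else 0) ∨
      (∃ (a₀ : A) (a : ℂ), ∀ i j, f i + g j = if i = a₀ then a else 0) := by
  classical
  let n : B → ℕ := fun j => (Finset.univ.filter fun i => f i + g j ≠ 0).card
  have htot : Nat.card {p : A × B // f p.1 + g p.2 ≠ 0} = ∑ j, n j := by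
    rw [Nat.card_eq_fintype_card, Fintype.card_subtype, Finset.card_filter,
      Fintype.sum_prod_type, Finset.sum_comm]
    exact Finset.sum_congr rfl fun j _ => by rw [← Finset.card_filter]
  rw [htot] at hfew
  haveI : Nonempty A := Fintype.card_pos_iff.mp (by omega)
  by_cases hconst : ∀ i i', f i = f i'
  · obtain ⟨i₀⟩ := ‹Nonempty A›
    have hn : ∀ j, n j = if f i₀ + g j ≠ 0 then Fintype.card A else 0 := by
      intro j
      simp only [n]
      split_ifs with h
      · rw [Finset.filter_true_of_mem fun i _ => by rw [hconst i i₀]; exact h, Finset.card_univ]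
      · rw [Finset.card_eq_zero, Finset.filter_eq_empty_iff]
        exact fun i _ hi => hi (by rw [hconst i i₀]; exact not_not.mp h)
    by_cases hall : ∀ j, f i₀ + g j = 0
    · exact Or.inl fun p => by rw [hconst p.1 i₀]; exact hall p.2
    push Not at hall
    obtain ⟨b₀, hb₀⟩ := hall
    refine Or.inr (Or.inl ⟨b₀, f i₀ + g b₀, fun i j => ?_⟩)
    rw [hconst i i₀]
    split_ifs with h
    · rw [h]
    · by_contra h'
      have := Finset.sum_le_sum_of_subset (f := n) (Finset.subset_univ ({j, b₀} : Finset B))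
      rw [Finset.sum_pair h, hn, hn, if_pos h', if_pos hb₀] at this
      omega
  push Not at hconst
  obtain ⟨i₁, i₂, hne⟩ := hconst
  have hn1 : ∀ j, 1 ≤ n j := by
    intro j
    refine Finset.card_pos.mpr ?_
    by_cases h : f i₁ + g j ≠ 0
    · exact ⟨i₁, by simp [h]⟩
    · exact ⟨i₂, Finset.mem_filter.mpr ⟨Finset.mem_univ _, fun h' =>
        hne (add_right_cancel ((not_not.mp h).trans h'.symm))⟩⟩
  obtain ⟨b₁, hb₁⟩ : ∃ j, n j = 1 := by
    by_contra hc
    push Not at hc
    have : ∀ j, 2 ≤ n j := fun j => by have := hn1 j; have := hc j; omega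
    have h2 := Finset.sum_le_sum (s := (Finset.univ : Finset B)) fun j _ => this j
    rw [Finset.sum_const, Finset.card_univ, smul_eq_mul] at h2
    omega
  obtain ⟨a₀, ha₀⟩ := Finset.card_eq_one.mp hb₁
  have hfa : ∀ i, i ≠ a₀ → f i = -g b₁ := by
    intro i hi
    by_contra h
    have : i ∈ Finset.univ.filter fun i => f i + g b₁ ≠ 0 :=
      Finset.mem_filter.mpr ⟨Finset.mem_univ _, fun h' => h (eq_neg_of_add_eq_zero_left h')⟩
    rw [ha₀, Finset.mem_singleton] at this
    exact hi this
  refine Or.inr (Or.inr ⟨a₀, f a₀ + g b₁, fun i j => ?_⟩)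
  have hj : g j = g b₁ := by
    by_contra h
    have hnj : Fintype.card A - 1 ≤ n j := by
      rw [← Finset.card_univ, ← Finset.card_erase_of_mem (Finset.mem_univ a₀)]
      refine Finset.card_le_card fun i hi => Finset.mem_filter.mpr ⟨Finset.mem_univ _, ?_⟩
      rw [hfa i (Finset.ne_of_mem_erase hi)]
      exact fun h' => h (by linear_combination h')
    have h1 : ∑ k ∈ Finset.univ.erase j, 1 ≤ ∑ k ∈ Finset.univ.erase j, n k :=
      Finset.sum_le_sum fun k _ => hn1 k
    rw [Finset.sum_const, smul_eq_mul, mul_one, Finset.card_erase_of_mem (Finset.mem_univ j),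
      Finset.card_univ] at h1
    have h2 := Finset.add_sum_erase Finset.univ n (Finset.mem_univ j)
    omega
  rw [hj]
  split_ifs with h
  · rw [h]
  · rw [hfa i h, neg_add_cancel]

end Cfsg.Agent.Char.CyclicTI
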