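import Cfsg.Agent.Lib.Char.Induction
import Cfsg.Agent.Lib.Char.Complete
import Cfsg.Prelude.Def_OddOrderChar
import Cfsg.Prelude.Def_OddOrderLocal
import Mathlib.GroupTheory.NoncommCoprod
import Mathlib.GroupTheory.SpecificGroups.Cyclic

/-!
# Cyclic TI subgroups: the duality of `W = W₁ × W₂` and functions supported off `W₁ ∪ W₂`
-/

set_option linter.style.haveILetI false

namespace Cfsg.Agent.Char.CyclicTI

open scoped ComplexConjugate
open Cfsg.Agent.Char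

universe u

variable {G : Type u} [Group G]

/-- Two commuting subgroups with trivial intersection. -/
structure Split (W₁ W₂ : Subgroup G) : Prop where
  disj : W₁ ⊓ W₂ = ⊥
  comm : ∀ a ∈ W₁, ∀ b ∈ W₂, a * b = b * a

variable {W₁ W₂ : Subgroup G}

/-- Inclusion of the first factor. -/
def inc1 (W₁ W₂ : Subgroup G) : W₁ →* ↥(W₁ ⊔ W₂) := Subgroup.inclusion le_sup_left

/-- Inclusion of the second factor. -/
def inc2 (W₁ W₂ : Subgroup G) : W₂ →* ↥(W₁ ⊔ W₂) := Subgroup.inclusion le_sup_right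

@[simp] theorem coe_inc1 (a : W₁) : ((inc1 W₁ W₂ a : ↥(W₁ ⊔ W₂)) : G) = a := rfl
@[simp] theorem coe_inc2 (b : W₂) : ((inc2 W₁ W₂ b : ↥(W₁ ⊔ W₂)) : G) = b := rfl

section split

variable (S : Split W₁ W₂)
include S

theorem bijective_mul :
    Function.Bijective (fun p : W₁ × W₂ => inc1 W₁ W₂ p.1 * inc2 W₁ W₂ p.2) := by
  constructor
  · rintro ⟨a, b⟩ ⟨a', b'⟩ h
    have h' : (a : G) * b = a' * b' := congrArg Subtype.val h
    have hm : (a' : G)⁻¹ * a ∈ W₁ ⊓ W₂ := by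
      refine ⟨W₁.mul_mem (W₁.inv_mem a'.2) a.2, ?_⟩
      have : (a' : G)⁻¹ * a = (b' : G) * (b : G)⁻¹ := by
        rw [inv_mul_eq_iff_eq_mul, ← mul_assoc, eq_mul_inv_iff_mul_eq]
        exact h'
      rw [this]
      exact W₂.mul_mem b'.2 (W₂.inv_mem b.2)
    rw [S.disj, Subgroup.mem_bot, inv_mul_eq_one] at hm
    obtain rfl : a' = a := Subtype.ext hm
    obtain rfl : b = b' := Subtype.ext (mul_left_cancel h')
    rfl
  · let f : W₁ × W₂ →* G := MonoidHom.noncommCoprod W₁.subtype W₂.subtype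
      (fun a b => S.comm _ a.2 _ b.2)
    have hle : W₁ ⊔ W₂ ≤ f.range := sup_le (fun x hx => ⟨(⟨x, hx⟩, 1), mul_one x⟩)
      (fun x hx => ⟨(1, ⟨x, hx⟩), one_mul x⟩)
    intro w
    obtain ⟨p, hp⟩ := hle w.2
    exact ⟨p, Subtype.ext hp⟩

/-- The internal direct product. -/
noncomputable def prodIso : W₁ × W₂ ≃* ↥(W₁ ⊔ W₂) :=
  MulEquiv.ofBijective
    (MonoidHom.noncommCoprod (inc1 W₁ W₂) (inc2 W₁ W₂)
      (fun a b => Subtype.ext (S.comm _ a.2 _ b.2)))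
    (bijective_mul S)

/-- First projection. -/
noncomputable def proj1 : ↥(W₁ ⊔ W₂) →* W₁ :=
  (MonoidHom.fst W₁ W₂).comp (prodIso S).symm.toMonoidHom

/-- Second projection. -/
noncomputable def proj2 : ↥(W₁ ⊔ W₂) →* W₂ :=
  (MonoidHom.snd W₁ W₂).comp (prodIso S).symm.toMonoidHom

theorem decomp (w : ↥(W₁ ⊔ W₂)) : inc1 W₁ W₂ (proj1 S w) * inc2 W₁ W₂ (proj2 S w) = w :=
  (prodIso S).apply_symm_apply w

@[simp] theorem proj1_inc1 (a : W₁) : proj1 S (inc1 W₁ W₂ a) = a := by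
  have h : prodIso S (a, 1) = inc1 W₁ W₂ a := Subtype.ext (mul_one (a : G))
  simp [proj1, ← h]

@[simp] theorem proj2_inc1 (a : W₁) : proj2 S (inc1 W₁ W₂ a) = 1 := by
  have h : prodIso S (a, 1) = inc1 W₁ W₂ a := Subtype.ext (mul_one (a : G))
  simp [proj2, ← h]

@[simp] theorem proj1_inc2 (b : W₂) : proj1 S (inc2 W₁ W₂ b) = 1 := by
  have h : prodIso S (1, b) = inc2 W₁ W₂ b := Subtype.ext (one_mul (b : G))
  simp [proj1, ← h]

@[simp] theorem proj2_inc2 (b : W₂) : proj2 S (inc2 W₁ W₂ b) = b := by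
  have h : prodIso S (1, b) = inc2 W₁ W₂ b := Subtype.ext (one_mul (b : G))
  simp [proj2, ← h]

theorem proj1_eq_one_iff (w : ↥(W₁ ⊔ W₂)) : proj1 S w = 1 ↔ (w : G) ∈ W₂ := by
  constructor
  · intro h
    rw [← decomp S w, h, map_one, one_mul]
    exact (proj2 S w).2
  · intro h
    rw [show w = inc2 W₁ W₂ ⟨w, h⟩ from rfl, proj1_inc2]

theorem proj2_eq_one_iff (w : ↥(W₁ ⊔ W₂)) : proj2 S w = 1 ↔ (w : G) ∈ W₁ := by
  constructor
  · intro h
    rw [← decomp S w, h, map_one, mul_one]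
    exact (proj1 S w).2
  · intro h
    rw [show w = inc1 W₁ W₂ ⟨w, h⟩ from rfl, proj2_inc1]

/-- A character of `W₁` pulled to `W`. -/
noncomputable def pull1 (f : W₁ →* ℂˣ) : ↥(W₁ ⊔ W₂) →* ℂˣ := f.comp (proj1 S)

/-- A character of `W₂` pulled to `W`. -/
noncomputable def pull2 (g : W₂ →* ℂˣ) : ↥(W₁ ⊔ W₂) →* ℂˣ := g.comp (proj2 S)

theorem hom_decomp (ω : ↥(W₁ ⊔ W₂) →* ℂˣ) :
    pull1 S (ω.comp (inc1 W₁ W₂)) * pull2 S (ω.comp (inc2 W₁ W₂)) = ω := by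
  ext w
  conv_rhs => rw [← decomp S w, map_mul]
  rfl

theorem hom_eq_pull1 {φ : ↥(W₁ ⊔ W₂) →* ℂˣ}
    (h : ∀ w : ↥(W₁ ⊔ W₂), (w : G) ∈ W₂ → φ w = 1) :
    φ = pull1 S (φ.comp (inc1 W₁ W₂)) := by
  conv_lhs => rw [← hom_decomp S φ]
  have : φ.comp (inc2 W₁ W₂) = 1 := MonoidHom.ext fun b => h _ b.2
  rw [this]
  ext w; simp [pull2]

theorem hom_eq_pull2 {ψ : ↥(W₁ ⊔ W₂) →* ℂˣ}
    (h : ∀ w : ↥(W₁ ⊔ W₂), (w : G) ∈ W₁ → ψ w = 1) :
    ψ = pull2 S (ψ.comp (inc2 W₁ W₂)) := by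
  conv_lhs => rw [← hom_decomp S ψ]
  have : ψ.comp (inc1 W₁ W₂) = 1 := MonoidHom.ext fun b => h _ b.2
  rw [this]
  ext w; simp [pull1]

theorem pull1_apply_of_mem (f : W₁ →* ℂˣ) (w : ↥(W₁ ⊔ W₂)) (h : (w : G) ∈ W₂) :
    pull1 S f w = 1 := by
  show f (proj1 S w) = 1
  rw [(proj1_eq_one_iff S w).mpr h, map_one]

theorem pull2_apply_of_mem (g : W₂ →* ℂˣ) (w : ↥(W₁ ⊔ W₂)) (h : (w : G) ∈ W₁) :
    pull2 S g w = 1 := by
  show g (proj2 S w) = 1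
  rw [(proj2_eq_one_iff S w).mpr h, map_one]

theorem pull_injective {f f' : W₁ →* ℂˣ} {g g' : W₂ →* ℂˣ}
    (h : pull1 S f * pull2 S g = pull1 S f' * pull2 S g') : f = f' ∧ g = g' := by
  constructor
  · ext a
    have := congrArg Units.val (DFunLike.congr_fun h (inc1 W₁ W₂ a))
    simpa [pull1, pull2] using this
  · ext b
    have := congrArg Units.val (DFunLike.congr_fun h (inc2 W₁ W₂ b))
    simpa [pull1, pull2] using this

theorem pull1_one : pull1 S (1 : W₁ →* ℂˣ) = 1 := by ext w; simp [pull1]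

theorem pull2_one : pull2 S (1 : W₂ →* ℂˣ) = 1 := by ext w; simp [pull2]

theorem pull_one_left (g : W₂ →* ℂˣ) : pull1 S (1 : W₁ →* ℂˣ) * pull2 S g = pull2 S g := by
  ext w; simp [pull1]

theorem pull_one_right (f : W₁ →* ℂˣ) : pull1 S f * pull2 S (1 : W₂ →* ℂˣ) = pull1 S f := by
  ext w; simp [pull2]

theorem pull_one_one : pull1 S (1 : W₁ →* ℂˣ) * pull2 S (1 : W₂ →* ℂˣ) = 1 := by
  ext w; simp [pull1, pull2]

/-- The characters of `W` as pairs. -/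
noncomputable def dualEquiv : (W₁ →* ℂˣ) × (W₂ →* ℂˣ) ≃ (↥(W₁ ⊔ W₂) →* ℂˣ) where
  toFun p := pull1 S p.1 * pull2 S p.2
  invFun ω := (ω.comp (inc1 W₁ W₂), ω.comp (inc2 W₁ W₂))
  left_inv p := by
    obtain ⟨h1, h2⟩ := pull_injective S (hom_decomp S (pull1 S p.1 * pull2 S p.2))
    exact Prod.ext h1 h2
  right_inv ω := hom_decomp S ω

end split

/-- The function `(1 - φ) (1 - ψ)`. -/
noncomputable def alpha (φ ψ : ↥(W₁ ⊔ W₂) →* ℂˣ) : ↥(W₁ ⊔ W₂) → ℂ :=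
  fun w => 1 - (φ w : ℂ) - (ψ w : ℂ) + (φ w : ℂ) * (ψ w : ℂ)

theorem alpha_vanish {φ ψ : ↥(W₁ ⊔ W₂) →* ℂˣ}
    (hφ : ∀ w : ↥(W₁ ⊔ W₂), (w : G) ∈ W₂ → φ w = 1)
    (hψ : ∀ w : ↥(W₁ ⊔ W₂), (w : G) ∈ W₁ → ψ w = 1) (w : ↥(W₁ ⊔ W₂))
    (hw : (w : G) ∈ W₁ ∨ (w : G) ∈ W₂) : alpha φ ψ w = 0 := by
  rcases hw with h | h
  · simp [alpha, hψ w h]
  · simp [alpha, hφ w h]

theorem alpha_left_one (ψ : ↥(W₁ ⊔ W₂) →* ℂˣ) : alpha 1 ψ = 0 := by
  funext w; simp [alpha]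

theorem alpha_right_one (φ : ↥(W₁ ⊔ W₂) →* ℂˣ) : alpha φ 1 = 0 := by
  funext w; simp [alpha]

theorem alpha_eq (φ ψ : ↥(W₁ ⊔ W₂) →* ℂˣ) :
    alpha φ ψ = ((fun w => ((1 : ↥(W₁ ⊔ W₂) →* ℂˣ) w : ℂ)) - fun w => (φ w : ℂ)) -
      (fun w => (ψ w : ℂ)) + fun w => ((φ * ψ) w : ℂ) := by
  funext w; simp [alpha]

theorem alpha_one (φ ψ : ↥(W₁ ⊔ W₂) →* ℂˣ) : alpha φ ψ 1 = 0 := by simp [alpha]

theorem classInner_lin {H : Type u} [Group H] [Fintype H] [DecidableEq (H →* ℂˣ)]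
    (a b : H →* ℂˣ) :
    Cfsg.classInner (fun w => (a w : ℂ)) (fun w => (b w : ℂ)) = if a = b then 1 else 0 := by
  by_cases h : a = b
  · subst h
    rw [if_pos rfl, classInner_self_irr (isIrrCharacter_linear a)]
  · rw [if_neg h, classInner_irr_of_ne (isIrrCharacter_linear a) (isIrrCharacter_linear b)]
    intro he
    exact h (MonoidHom.ext fun w => Units.ext (congrFun he w))

theorem classInner_lin_alpha [Fintype ↥(W₁ ⊔ W₂)] [DecidableEq (↥(W₁ ⊔ W₂) →* ℂˣ)]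
    (a φ ψ : ↥(W₁ ⊔ W₂) →* ℂˣ) :
    Cfsg.classInner (fun w => (a w : ℂ)) (alpha φ ψ) =
      (if a = 1 then 1 else 0) - (if a = φ then 1 else 0) - (if a = ψ then 1 else 0) +
        (if a = φ * ψ then 1 else 0) := by
  rw [alpha_eq, classInner_add_right, classInner_sub_right, classInner_sub_right, classInner_lin,
    classInner_lin, classInner_lin, classInner_lin]

theorem classInner_alpha_left [Fintype ↥(W₁ ⊔ W₂)] [DecidableEq (↥(W₁ ⊔ W₂) →* ℂˣ)]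
    (φ ψ φ' ψ' : ↥(W₁ ⊔ W₂) →* ℂˣ) :
    Cfsg.classInner (alpha φ ψ) (alpha φ' ψ') =
      Cfsg.classInner (fun w => ((1 : ↥(W₁ ⊔ W₂) →* ℂˣ) w : ℂ)) (alpha φ' ψ') -
        Cfsg.classInner (fun w => (φ w : ℂ)) (alpha φ' ψ') -
        Cfsg.classInner (fun w => (ψ w : ℂ)) (alpha φ' ψ') +
        Cfsg.classInner (fun w => ((φ * ψ) w : ℂ)) (alpha φ' ψ') := by
  rw [alpha_eq φ ψ, classInner_add_left, classInner_sub_left, classInner_sub_left]

theorem classInner_pull_alpha [Fintype ↥(W₁ ⊔ W₂)] [DecidableEq (↥(W₁ ⊔ W₂) →* ℂˣ)]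
    [DecidableEq (W₁ →* ℂˣ)] [DecidableEq (W₂ →* ℂˣ)] (S : Split W₁ W₂)
    (f f' : W₁ →* ℂˣ) (g g' : W₂ →* ℂˣ) :
    Cfsg.classInner (fun w => ((pull1 S f * pull2 S g) w : ℂ))
        (alpha (pull1 S f') (pull2 S g')) =
      ((if f = 1 then 1 else 0) - (if f = f' then 1 else 0)) *
        ((if g = 1 then 1 else 0) - (if g = g' then 1 else 0)) := by
  have key : ∀ (a : W₁ →* ℂˣ) (b : W₂ →* ℂˣ),
      (if pull1 S f * pull2 S g = pull1 S a * pull2 S b then (1 : ℂ) else 0) =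
        (if f = a then 1 else 0) * (if g = b then 1 else 0) := by
    intro a b
    by_cases h : f = a ∧ g = b
    · obtain ⟨rfl, rfl⟩ := h; simp
    · rw [if_neg fun e => h (pull_injective S e)]
      rcases not_and_or.mp h with h | h <;> simp [h]
  rw [classInner_lin_alpha]
  have e1 := key 1 1
  have e2 := key f' 1
  have e3 := key 1 g'
  rw [pull_one_one S] at e1
  rw [pull_one_right S] at e2
  rw [pull_one_left S] at e3
  rw [e1, e2, e3, key f' g']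
  ring

theorem classInner_alpha_alpha [Fintype ↥(W₁ ⊔ W₂)] [DecidableEq (↥(W₁ ⊔ W₂) →* ℂˣ)]
    [DecidableEq (W₁ →* ℂˣ)] [DecidableEq (W₂ →* ℂˣ)] (S : Split W₁ W₂)
    {f f' : W₁ →* ℂˣ} {g g' : W₂ →* ℂˣ} (hf : f ≠ 1) (hf' : f' ≠ 1) (hg : g ≠ 1) (hg' : g' ≠ 1) :
    Cfsg.classInner (alpha (pull1 S f) (pull2 S g)) (alpha (pull1 S f') (pull2 S g')) =
      (1 + if f = f' then 1 else 0) * (1 + if g = g' then 1 else 0) := by
  have e00 := classInner_pull_alpha S 1 f' 1 g'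
  have e10 := classInner_pull_alpha S f f' 1 g'
  have e01 := classInner_pull_alpha S 1 f' g g'
  rw [pull_one_one S] at e00
  rw [pull_one_right S] at e10
  rw [pull_one_left S] at e01
  rw [classInner_alpha_left, e00, e10, e01, classInner_pull_alpha S f f' g g']
  simp only [if_neg hf, if_neg hg, if_neg hf'.symm, if_neg hg'.symm, if_true]
  ring

theorem classInner_one_alpha [Fintype ↥(W₁ ⊔ W₂)] (S : Split W₁ W₂)
    {f : W₁ →* ℂˣ} {g : W₂ →* ℂˣ} (hf : f ≠ 1) (hg : g ≠ 1) :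
    Cfsg.classInner (fun _ => (1 : ℂ)) (alpha (pull1 S f) (pull2 S g)) = 1 := by
  classical
  have h := classInner_pull_alpha S 1 f 1 g
  rw [pull_one_one S] at h
  simpa [hf.symm, hg.symm] using h

/-! ## Sums over the dual group -/

open scoped IsMulCommutative in
theorem exists_hom_ne_one {H : Type u} [Group H] [Finite H] [IsMulCommutative H] {x : H}
    (hx : x ≠ 1) : ∃ f : H →* ℂˣ, f x ≠ 1 := by
  haveI : NeZero (Monoid.exponent H : ℂ) :=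
    ⟨Nat.cast_ne_zero.mpr Monoid.exponent_ne_zero_of_finite⟩
  exact CommGroup.exists_apply_ne_one_of_hasEnoughRootsOfUnity H ℂ hx

open scoped IsMulCommutative in
theorem card_hom {H : Type u} [Group H] [Finite H] [IsMulCommutative H] :
    Nat.card (H →* ℂˣ) = Nat.card H := by
  haveI : NeZero (Monoid.exponent H : ℂ) :=
    ⟨Nat.cast_ne_zero.mpr Monoid.exponent_ne_zero_of_finite⟩
  exact CommGroup.card_monoidHom_of_hasEnoughRootsOfUnity H ℂ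

theorem finite_dual (H : Type u) [Group H] [Finite H] : Finite (H →* ℂˣ) :=
  Finite.of_injective (β := Cfsg.IrrCharacter H) (fun f => ⟨_, isIrrCharacter_linear f⟩)
    fun _ _ h => MonoidHom.ext fun x => Units.ext (congrFun (congrArg Subtype.val h) x)

theorem sum_hom_eq_zero {H : Type u} [Group H] [Finite H] [IsMulCommutative H]
    [Fintype (H →* ℂˣ)] {x : H} (hx : x ≠ 1) : ∑ f : H →* ℂˣ, (f x : ℂ) = 0 := by
  obtain ⟨f0, hf0⟩ := exists_hom_ne_one hx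
  have h : (f0 x : ℂ) * ∑ f : H →* ℂˣ, (f x : ℂ) = ∑ f : H →* ℂˣ, (f x : ℂ) := by
    rw [Finset.mul_sum]
    exact Fintype.sum_equiv (Equiv.mulLeft f0) _ _ fun f => by simp
  by_contra h0
  exact hf0 (Units.ext (by simpa using (mul_eq_right₀ h0).mp h))

theorem sum_hom {H : Type u} [Group H] [Finite H] [IsMulCommutative H] [Fintype (H →* ℂˣ)]
    [DecidableEq H] (x : H) :
    ∑ f : H →* ℂˣ, (f x : ℂ) = if x = 1 then (Nat.card H : ℂ) else 0 := by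
  split_ifs with h
  · subst h
    simp [← card_hom (H := H), Nat.card_eq_fintype_card]
  · exact sum_hom_eq_zero h

theorem zero_on_V [Finite G] [Fintype ↥(W₁ ⊔ W₂)] [IsMulCommutative W₁] [IsMulCommutative W₂]
    (S : Split W₁ W₂) {F : ↥(W₁ ⊔ W₂) → ℂ}
    (h : ∀ (f : W₁ →* ℂˣ) (g : W₂ →* ℂˣ),
      Cfsg.classInner F (alpha (pull1 S f) (pull2 S g)) = 0)
    (v : ↥(W₁ ⊔ W₂)) (hv₁ : (v : G) ∉ W₁) (hv₂ : (v : G) ∉ W₂) : F v = 0 := by
  classical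
  haveI := finite_dual W₁
  haveI := finite_dual W₂
  haveI : Fintype (W₁ →* ℂˣ) := Fintype.ofFinite _
  haveI : Fintype (W₂ →* ℂˣ) := Fintype.ofFinite _
  have hx : proj1 S v ≠ 1 := fun e => hv₂ ((proj1_eq_one_iff S v).mp e)
  have hy : proj2 S v ≠ 1 := fun e => hv₁ ((proj2_eq_one_iff S v).mp e)
  have hdelta : ∀ w : ↥(W₁ ⊔ W₂),
      ∑ f : W₁ →* ℂˣ, ∑ g : W₂ →* ℂˣ, (f (proj1 S v)⁻¹ : ℂ) * (g (proj2 S v)⁻¹ : ℂ) *
        alpha (pull1 S f) (pull2 S g) w =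
      if w = v then ((Nat.card W₁ : ℂ) * (Nat.card W₂ : ℂ)) else 0 := by
    intro w
    have e : ∀ (f : W₁ →* ℂˣ) (g : W₂ →* ℂˣ),
        (f (proj1 S v)⁻¹ : ℂ) * (g (proj2 S v)⁻¹ : ℂ) * alpha (pull1 S f) (pull2 S g) w =
        ((f (proj1 S v)⁻¹ : ℂ) - (f ((proj1 S v)⁻¹ * proj1 S w) : ℂ)) *
          ((g (proj2 S v)⁻¹ : ℂ) - (g ((proj2 S v)⁻¹ * proj2 S w) : ℂ)) := by
      intro f g
      simp only [alpha, pull1, pull2, MonoidHom.comp_apply, map_mul, Units.val_mul]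
      ring
    simp only [e, ← Finset.mul_sum, ← Finset.sum_mul, Finset.sum_sub_distrib, sum_hom,
      inv_eq_one, if_neg hx, if_neg hy, inv_mul_eq_one, zero_sub, neg_mul_neg]
    by_cases hw : w = v
    · subst hw; simp
    · rw [if_neg hw]
      rcases not_and_or.mp (fun he : proj1 S v = proj1 S w ∧ proj2 S v = proj2 S w => hw (by
        rw [← decomp S w, ← he.1, ← he.2, decomp])) with h' | h' <;> simp [h']
  have hsum : ∑ f : W₁ →* ℂˣ, ∑ g : W₂ →* ℂˣ,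
      conj ((f (proj1 S v)⁻¹ : ℂ) * (g (proj2 S v)⁻¹ : ℂ)) *
        Cfsg.classInner F (alpha (pull1 S f) (pull2 S g)) = 0 := by simp [h]
  have hcomb : ∑ f : W₁ →* ℂˣ, ∑ g : W₂ →* ℂˣ,
      conj ((f (proj1 S v)⁻¹ : ℂ) * (g (proj2 S v)⁻¹ : ℂ)) *
        Cfsg.classInner F (alpha (pull1 S f) (pull2 S g)) =
      Cfsg.classInner F (∑ f : W₁ →* ℂˣ, ∑ g : W₂ →* ℂˣ,
        ((f (proj1 S v)⁻¹ : ℂ) * (g (proj2 S v)⁻¹ : ℂ)) • alpha (pull1 S f) (pull2 S g)) := by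
    simp only [classInner_sum_right, classInner_smul_right]
  rw [hcomb] at hsum
  have hfun : (∑ f : W₁ →* ℂˣ, ∑ g : W₂ →* ℂˣ,
      ((f (proj1 S v)⁻¹ : ℂ) * (g (proj2 S v)⁻¹ : ℂ)) • alpha (pull1 S f) (pull2 S g)) =
      fun w => if w = v then ((Nat.card W₁ : ℂ) * (Nat.card W₂ : ℂ)) else 0 := by
    funext w
    simp only [Finset.sum_apply, Pi.smul_apply, smul_eq_mul]
    exact hdelta w
  rw [hfun] at hsum
  simp [Cfsg.classInner, apply_ite, Finset.sum_ite_eq', Nat.card_pos.ne'] at hsum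
  exact hsum

/-! ## The trivial intersection property -/

theorem mem_iff_pow {H : Type u} [Group H] [Finite H] [IsCyclic H] (K : Subgroup H) (x : H) :
    x ∈ K ↔ x ^ Nat.card K = 1 := by
  classical
  haveI : Fintype H := Fintype.ofFinite H
  refine ⟨fun hx => ?_, fun hx => ?_⟩
  · exact congrArg Subtype.val (pow_card_eq_one' (x := (⟨x, hx⟩ : K)))
  · have hsub : (Finset.univ.filter fun y => y ∈ K) =
        Finset.univ.filter fun y : H => y ^ Nat.card K = 1 := by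
      refine Finset.eq_of_subset_of_card_le (fun y hy => ?_) ?_
      · exact Finset.mem_filter.mpr ⟨Finset.mem_univ _,
          congrArg Subtype.val (pow_card_eq_one' (x := (⟨y, (Finset.mem_filter.mp hy).2⟩ : K)))⟩
      · refine le_trans (IsCyclic.card_pow_eq_one_le Nat.card_pos) ?_
        rw [← Fintype.card_subtype, ← Nat.card_eq_fintype_card]
    have : x ∈ Finset.univ.filter fun y : H => y ∈ K := by
      rw [hsub]; simpa using hx
    exact (Finset.mem_filter.mp this).2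

section selfnorm

variable [Finite G] (hW : Cfsg.IsSelfNormalizingCyclic W₁ W₂)
include hW

theorem split_of : Split W₁ W₂ := ⟨hW.2.2.1, hW.2.2.2.1⟩

theorem isMulCommutative_sup : IsMulCommutative ↥(W₁ ⊔ W₂) := by
  haveI := hW.2.2.2.2.1
  exact ⟨⟨fun a b => IsCyclic.commGroup.mul_comm a b⟩⟩

theorem isMulCommutative1 : IsMulCommutative W₁ := by
  haveI := isMulCommutative_sup hW
  refine ⟨⟨fun a b => Subtype.ext ?_⟩⟩
  have := congrArg Subtype.val (mul_comm' (inc1 W₁ W₂ a) (inc1 W₁ W₂ b))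
  exact this

theorem isMulCommutative2 : IsMulCommutative W₂ := by
  haveI := isMulCommutative_sup hW
  refine ⟨⟨fun a b => Subtype.ext ?_⟩⟩
  have := congrArg Subtype.val (mul_comm' (inc2 W₁ W₂ a) (inc2 W₁ W₂ b))
  exact this

theorem centralizer_eq {v : ↥(W₁ ⊔ W₂)} (h₁ : (v : G) ∉ W₁) (h₂ : (v : G) ∉ W₂) :
    ∀ g : G, g ∈ W₁ ⊔ W₂ ↔ g * v * g⁻¹ = (v : G) := by
  intro g
  have h := hW.2.2.2.2.2 {(v : G)}
    (Set.singleton_subset_iff.mpr ⟨v.2, fun h => h.elim h₁ h₂⟩) (Set.singleton_nonempty _)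
  have h' : g ∈ W₁ ⊔ W₂ ↔ g ∈ Subgroup.normalizer ({(v : G)} : Set G) := by rw [h]
  rw [h', Subgroup.mem_set_normalizer_iff]
  constructor
  · intro hg
    simpa using (hg (v : G)).mp rfl
  · intro hg n
    constructor
    · rintro rfl; exact hg
    · intro hn
      rw [Set.mem_singleton_iff] at hn ⊢
      exact mul_left_cancel (mul_right_cancel (hn.trans hg.symm))

theorem conj_of_mem {v v' : ↥(W₁ ⊔ W₂)} (h₁ : (v : G) ∉ W₁) (h₂ : (v : G) ∉ W₂)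
    (h₁' : (v' : G) ∉ W₁) (h₂' : (v' : G) ∉ W₂) {g : G} (hg : g * v * g⁻¹ = (v' : G)) :
    g ∈ W₁ ⊔ W₂ := by
  haveI := hW.2.2.2.2.1
  have hWg : ∀ x : G, x ∈ W₁ ⊔ W₂ ↔ g * x * g⁻¹ ∈ W₁ ⊔ W₂ := by
    intro x
    rw [centralizer_eq hW h₁ h₂ x, centralizer_eq hW h₁' h₂' (g * x * g⁻¹), ← hg]
    constructor
    · intro hx
      conv_rhs => rw [← hx]
      group
    · intro hx
      have := congrArg (fun z => g⁻¹ * z * g) hx
      simpa [mul_assoc] using this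
  have hsub : ∀ (K : Subgroup G), K ≤ W₁ ⊔ W₂ → ∀ x, x ∈ K ↔ g * x * g⁻¹ ∈ K := by
    intro K hK x
    have hchar : ∀ y, y ∈ K ↔ y ∈ W₁ ⊔ W₂ ∧ y ^ Nat.card K = 1 := by
      intro y
      constructor
      · intro hy
        exact ⟨hK hy, congrArg Subtype.val (pow_card_eq_one' (x := (⟨y, hy⟩ : K)))⟩
      · rintro ⟨hy, hy1⟩
        have := (mem_iff_pow (K.subgroupOf (W₁ ⊔ W₂)) ⟨y, hy⟩).mpr (Subtype.ext (by
          rw [Nat.card_congr (Subgroup.subgroupOfEquivOfLe hK).toEquiv]; simpa using hy1))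
        exact Subgroup.mem_subgroupOf.mp this
    rw [hchar, hchar, ← hWg x, conj_pow, conj_eq_one_iff]
  have h := hW.2.2.2.2.2 ((↑(W₁ ⊔ W₂) : Set G) \ (↑W₁ ∪ ↑W₂)) subset_rfl
    ⟨(v : G), v.2, fun h => h.elim h₁ h₂⟩
  rw [← h, Subgroup.mem_set_normalizer_iff]
  intro n
  simp only [Set.mem_diff, Set.mem_union, SetLike.mem_coe]
  rw [hWg n, hsub W₁ le_sup_left n, hsub W₂ le_sup_right n]

variable [Fintype G] [Fintype ↥(W₁ ⊔ W₂)]

theorem indFun_on_V {β : ↥(W₁ ⊔ W₂) → ℂ}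
    (hβ : ∀ w : ↥(W₁ ⊔ W₂), ((w : G) ∈ W₁ ∨ (w : G) ∈ W₂) → β w = 0) {v : ↥(W₁ ⊔ W₂)}
    (h₁ : (v : G) ∉ W₁) (h₂ : (v : G) ∉ W₂) : Cfsg.indFun (W₁ ⊔ W₂) β v = β v := by
  classical
  rw [indFun_apply, Finset.sum_congr rfl (g := fun x : G => if x ∈ W₁ ⊔ W₂ then β v else 0)
    fun x _ => ?_]
  · rw [← Finset.sum_filter, Finset.sum_const, nsmul_eq_mul, ← Fintype.card_subtype,
      ← Nat.card_eq_fintype_card, inv_mul_cancel_left₀ (Nat.cast_ne_zero.mpr Nat.card_pos.ne')]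
  · split_ifs with hx
    · have e : x⁻¹ * (v : G) * x = v := by
        have := (centralizer_eq hW h₁ h₂ x⁻¹).mp ((W₁ ⊔ W₂).inv_mem hx)
        rwa [inv_inv] at this
      rw [e, extendByZero_coe]
    · by_cases hm : x⁻¹ * (v : G) * x ∈ W₁ ⊔ W₂
      · rw [extendByZero_mem _ _ hm]
        refine hβ _ ?_
        by_contra hn
        push Not at hn
        refine hx ?_
        have := conj_of_mem hW h₁ h₂ hn.1 hn.2 (g := x⁻¹) (v' := ⟨_, hm⟩) (by rw [inv_inv])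
        simpa using (W₁ ⊔ W₂).inv_mem this
      · exact extendByZero_not_mem _ _ hm

theorem classInner_indFun {β γ : ↥(W₁ ⊔ W₂) → ℂ}
    (hβ : ∀ w : ↥(W₁ ⊔ W₂), ((w : G) ∈ W₁ ∨ (w : G) ∈ W₂) → β w = 0)
    (hγ : ∀ w : ↥(W₁ ⊔ W₂), ((w : G) ∈ W₁ ∨ (w : G) ∈ W₂) → γ w = 0) :
    Cfsg.classInner (Cfsg.indFun (W₁ ⊔ W₂) β) (Cfsg.indFun (W₁ ⊔ W₂) γ) =
      Cfsg.classInner β γ := by
  rw [classInner_indFun_left _ β (isClassFunction_indFun _ γ)]
  simp only [Cfsg.classInner]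
  congr 1
  refine Finset.sum_congr rfl fun w _ => ?_
  by_cases hw : (w : G) ∈ W₁ ∨ (w : G) ∈ W₂
  · simp [hβ w hw]
  · push Not at hw
    rw [indFun_on_V hW hγ hw.1 hw.2]

end selfnorm

end Cfsg.Agent.Char.CyclicTI
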