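import Mathlib

/-!
# Integer vectors of norm three in a grid

A grid of integer vectors of squared norm three in which two members in the same row or column share
exactly one coordinate, with equal values, and other pairs are orthogonal.  If one side has at least four
and the other at least two, other than three, members, the grid splits along rows and columns.
-/

namespace Cfsg.Agent.Char.CyclicTI.Grid

open Finset

variable {X : Type*} [Fintype X]

/-- Inner product of integer vectors. -/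
def dot (u w : X → ℤ) : ℤ := ∑ e, u e * w e

/-- Two vectors share exactly one coordinate, with the same value. -/
def Share (u w : X → ℤ) : Prop :=
  ∃ e, u e = w e ∧ u e ≠ 0 ∧ ∀ f, f ≠ e → u f = 0 ∨ w f = 0

theorem Share.symm {u w : X → ℤ} (h : Share u w) : Share w u := by
  obtain ⟨e, h1, h2, h3⟩ := h
  exact ⟨e, h1.symm, h1 ▸ h2, fun f hf => (h3 f hf).symm⟩

theorem sq_le_one {u : X → ℤ} (h : dot u u = 3) (e : X) : u e * u e ≤ 1 := by
  by_contra hc
  have h1 : u e * u e ≤ 3 := h ▸ Finset.single_le_sum (f := fun e => u e * u e)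
    (fun f _ => mul_self_nonneg _) (Finset.mem_univ e)
  have h2 : -1 ≤ u e ∧ u e ≤ 1 := by constructor <;> nlinarith
  rcases h2 with ⟨ha, hb⟩
  interval_cases (u e) <;> simp_all

theorem val_cases {u : X → ℤ} (h : dot u u = 3) (e : X) : u e = -1 ∨ u e = 0 ∨ u e = 1 := by
  have h1 := sq_le_one h e
  have h2 : -1 ≤ u e ∧ u e ≤ 1 := by constructor <;> nlinarith
  omega

theorem mul_self_of_ne {u : X → ℤ} (h : dot u u = 3) {e : X} (he : u e ≠ 0) : u e * u e = 1 := by
  rcases val_cases h e with h1 | h1 | h1 <;> simp_all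

variable [DecidableEq X]

/-- The support. -/
def supp (u : X → ℤ) : Finset X := Finset.univ.filter fun e => u e ≠ 0

theorem card_supp {u : X → ℤ} (h : dot u u = 3) : (supp u).card = 3 := by
  have e : dot u u = ((supp u).card : ℤ) := by
    rw [dot, supp, Finset.card_filter, Nat.cast_sum]
    refine Finset.sum_congr rfl fun e _ => ?_
    by_cases he : u e = 0
    · simp [he]
    · simp [he, mul_self_of_ne h he]
  omega

theorem mem_supp {u : X → ℤ} {e : X} : e ∈ supp u ↔ u e ≠ 0 := by simp [supp]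

theorem third {u : X → ℤ} (h : dot u u = 3) {e₁ e₂ : X} (h1 : u e₁ ≠ 0) (h2 : u e₂ ≠ 0)
    (hne : e₁ ≠ e₂) :
    ∃ e₃, u e₃ ≠ 0 ∧ e₃ ≠ e₁ ∧ e₃ ≠ e₂ ∧ ∀ f, f ≠ e₁ → f ≠ e₂ → f ≠ e₃ → u f = 0 := by
  have hc : (((supp u).erase e₁).erase e₂).card = 1 := by
    rw [Finset.card_erase_of_mem (Finset.mem_erase.mpr ⟨hne.symm, mem_supp.mpr h2⟩),
      Finset.card_erase_of_mem (mem_supp.mpr h1), card_supp h]
  obtain ⟨e₃, he⟩ := Finset.card_eq_one.mp hc
  have hm : e₃ ∈ ((supp u).erase e₁).erase e₂ := by simp [he]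
  simp only [Finset.mem_erase, mem_supp] at hm
  refine ⟨e₃, hm.2.2, hm.2.1, hm.1, fun f f1 f2 f3 => ?_⟩
  by_contra hf
  have : f ∈ ((supp u).erase e₁).erase e₂ := by
    simp only [Finset.mem_erase, mem_supp]; exact ⟨f2, f1, hf⟩
  rw [he, Finset.mem_singleton] at this
  exact f3 this

theorem dot_three {u : X → ℤ} (w : X → ℤ) {a b c : X} (hab : a ≠ b) (hac : a ≠ c) (hbc : b ≠ c)
    (h0 : ∀ f, f ≠ a → f ≠ b → f ≠ c → u f = 0) :
    dot w u = w a * u a + w b * u b + w c * u c := by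
  rw [dot, ← Finset.sum_subset (Finset.subset_univ ({a, b, c} : Finset X)) (fun f _ hf => by
    simp only [Finset.mem_insert, Finset.mem_singleton, not_or] at hf
    rw [h0 f hf.1 hf.2.1 hf.2.2, mul_zero])]
  rw [Finset.sum_insert (by simp [hab, hac]), Finset.sum_insert (by simp [hbc]),
    Finset.sum_singleton, add_assoc]

omit [DecidableEq X] in
theorem dot_comm (u w : X → ℤ) : dot u w = dot w u :=
  Finset.sum_congr rfl fun _ _ => mul_comm _ _

theorem Share.dot_eq {u w : X → ℤ} (h : Share u w) (hu : dot u u = 3) : dot u w = 1 := by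
  obtain ⟨e, h1, h2, h3⟩ := h
  rw [dot, Finset.sum_eq_single e]
  · rw [← h1]; exact mul_self_of_ne hu h2
  · intro f _ hf; rcases h3 f hf with h | h <;> simp [h]
  · simp

theorem Share.count {u w : X → ℤ} (h : Share u w) (hu : dot u u = 3) :
    ∑ e, (u e * u e) * (w e * w e) = 1 := by
  obtain ⟨e, h1, h2, h3⟩ := h
  rw [Finset.sum_eq_single e]
  · rw [← h1, mul_self_of_ne hu h2, mul_one]
  · intro f _ hf; rcases h3 f hf with h | h <;> simp [h]
  · simp

theorem Share.eq_of_both {u w : X → ℤ} (h : Share u w) {e f : X} (hu : u e ≠ 0) (hw : w e ≠ 0)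
    (hu' : u f ≠ 0) (hw' : w f ≠ 0) : e = f := by
  obtain ⟨x, -, -, h3⟩ := h
  have key : ∀ y, u y ≠ 0 → w y ≠ 0 → y = x := fun y a b => by
    by_contra hy
    exact (h3 y hy).elim a b
  rw [key e hu hw, key f hu' hw']

theorem Share.value {u w : X → ℤ} (h : Share u w) {e : X} (hu : u e ≠ 0) (hw : w e ≠ 0) :
    u e = w e := by
  obtain ⟨x, h1, h2, h3⟩ := h
  rw [(Share.eq_of_both ⟨x, h1, h2, h3⟩ hu hw h2 (h1 ▸ h2))]
  exact h1

/-! ## A vector against four rows of the special configuration -/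

/-- Relative to seven points `x a b c A B C`: the coordinates of `u` (times the signs). -/
structure Row (x a b c A B C : ℤ) (tA tB tC tD : ℤ) : Prop where
  eA : x + a + A = tA
  eB : x + b + B = tB
  eC : x + c + C = tC
  eD : a + b + c = tD
  norm : x * x + a * a + b * b + c * c + A * A + B * B + C * C ≤ 3

/-- Unit-range integers. -/
def Small (z : ℤ) : Prop := z = -1 ∨ z = 0 ∨ z = 1

theorem classify_D {x a b c A B C : ℤ} (sx : Small x) (sa : Small a) (sb : Small b) (sc : Small c)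
    (h : Row x a b c A B C 0 0 0 1) (hone : a * a + b * b + c * c = 1) :
    (a = 1 ∧ b = 0 ∧ c = 0 ∧ x = 0 ∧ A = -1 ∧ B = 0 ∧ C = 0) ∨
    (a = 0 ∧ b = 1 ∧ c = 0 ∧ x = 0 ∧ A = 0 ∧ B = -1 ∧ C = 0) ∨
    (a = 0 ∧ b = 0 ∧ c = 1 ∧ x = 0 ∧ A = 0 ∧ B = 0 ∧ C = -1) := by
  obtain ⟨eA, eB, eC, eD, hn⟩ := h
  obtain rfl : A = -x - a := by linarith
  obtain rfl : B = -x - b := by linarith
  obtain rfl : C = -x - c := by linarith
  rcases sx with rfl | rfl | rfl <;> rcases sa with rfl | rfl | rfl <;>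
    rcases sb with rfl | rfl | rfl <;> rcases sc with rfl | rfl | rfl <;> norm_num at *

theorem classify_A {x a b c A B C : ℤ} (sx : Small x) (sa : Small a) (sb : Small b) (sc : Small c)
    (h : Row x a b c A B C 1 0 0 0) (hone : x * x + a * a + A * A = 1) :
    (x = 1 ∧ a = 0 ∧ b = 0 ∧ c = 0 ∧ A = 0 ∧ B = -1 ∧ C = -1) ∨
    (x = 0 ∧ a = 1 ∧ b = -1 ∧ c = 0 ∧ A = 0 ∧ B = 1 ∧ C = 0) ∨
    (x = 0 ∧ a = 1 ∧ b = 0 ∧ c = -1 ∧ A = 0 ∧ B = 0 ∧ C = 1) ∨
    (x = 0 ∧ a = 0 ∧ b = 0 ∧ c = 0 ∧ A = 1 ∧ B = 0 ∧ C = 0) := by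
  obtain ⟨eA, eB, eC, eD, hn⟩ := h
  obtain rfl : A = 1 - x - a := by linarith
  obtain rfl : B = -x - b := by linarith
  obtain rfl : C = -x - c := by linarith
  rcases sx with rfl | rfl | rfl <;> rcases sa with rfl | rfl | rfl <;>
    rcases sb with rfl | rfl | rfl <;> rcases sc with rfl | rfl | rfl <;> norm_num at *

/-- Seven coordinates. -/
@[ext] structure V7 where
  x : ℤ
  a : ℤ
  b : ℤ
  c : ℤ
  A : ℤ
  B : ℤ
  C : ℤ

/-- Inner product of coordinates. -/
def V7.ip (u w : V7) : ℤ :=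
  u.x * w.x + u.a * w.a + u.b * w.b + u.c * w.c + u.A * w.A + u.B * w.B + u.C * w.C

/-- What can be seen of two vectors sharing one coordinate. -/
def V7.Compat (u w : V7) : Prop :=
  1 - u.ip w ≤ 3 - u.ip u ∧ 1 - u.ip w ≤ 3 - w.ip w ∧ u.ip w - 1 ≤ 3 - u.ip u ∧
    u.ip w - 1 ≤ 3 - w.ip w

theorem no_four {uA uB uC uD : V7}
    (hA : uA = ⟨1, 0, 0, 0, 0, -1, -1⟩ ∨ uA = ⟨0, 1, -1, 0, 0, 1, 0⟩ ∨
      uA = ⟨0, 1, 0, -1, 0, 0, 1⟩ ∨ uA = ⟨0, 0, 0, 0, 1, 0, 0⟩)
    (hB : uB = ⟨1, 0, 0, 0, -1, 0, -1⟩ ∨ uB = ⟨0, -1, 1, 0, 1, 0, 0⟩ ∨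
      uB = ⟨0, 0, 1, -1, 0, 0, 1⟩ ∨ uB = ⟨0, 0, 0, 0, 0, 1, 0⟩)
    (hC : uC = ⟨1, 0, 0, 0, -1, -1, 0⟩ ∨ uC = ⟨0, -1, 0, 1, 1, 0, 0⟩ ∨
      uC = ⟨0, 0, -1, 1, 0, 1, 0⟩ ∨ uC = ⟨0, 0, 0, 0, 0, 0, 1⟩)
    (hD : uD = ⟨0, 1, 0, 0, -1, 0, 0⟩ ∨ uD = ⟨0, 0, 1, 0, 0, -1, 0⟩ ∨
      uD = ⟨0, 0, 0, 1, 0, 0, -1⟩)
    (hDA : uD.Compat uA) (hDB : uD.Compat uB) (hDC : uD.Compat uC)
    (hAB : uA.Compat uB) (hAC : uA.Compat uC) (hBC : uB.Compat uC) : False := by
  simp only [V7.Compat, V7.ip] at hDA hDB hDC hAB hAC hBC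
  rcases hD with rfl | rfl | rfl <;> rcases hA with rfl | rfl | rfl | rfl <;>
    first
    | (norm_num at hDA; done)
    | (rcases hB with rfl | rfl | rfl | rfl <;>
        first
        | (norm_num at hDB; done)
        | (norm_num at hAB; done)
        | (rcases hC with rfl | rfl | rfl | rfl <;>
            first
            | (norm_num at hDC; done)
            | (norm_num at hAC; done)
            | (norm_num at hBC; done)))

/-- Coordinates of `u` relative to signed points. -/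
def coords (u s : X → ℤ) (x a b c A B C : X) : V7 :=
  ⟨s x * u x, s a * u a, s b * u b, s c * u c, s A * u A, s B * u B, s C * u C⟩

theorem seven_le {u s : X → ℤ} {x a b c A B C : X} (hu : dot u u = 3)
    (hnd : [x, a, b, c, A, B, C].Nodup) (hs : ∀ e ∈ [x, a, b, c, A, B, C], s e * s e = 1) :
    (coords u s x a b c A B C).ip (coords u s x a b c A B C) ≤ 3 := by
  have hsum : ∑ e ∈ [x, a, b, c, A, B, C].toFinset, u e * u e =
      (coords u s x a b c A B C).ip (coords u s x a b c A B C) := by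
    rw [List.sum_toFinset _ hnd]
    simp only [List.map_cons, List.map_nil, List.sum_cons, List.sum_nil, V7.ip, coords]
    have key : ∀ e ∈ [x, a, b, c, A, B, C], s e * u e * (s e * u e) = u e * u e := fun e he => by
      linear_combination (u e * u e) * hs e he
    simp only [List.mem_cons, List.mem_nil_iff, or_false, forall_eq_or_imp, forall_eq] at key
    obtain ⟨k1, k2, k3, k4, k5, k6, k7⟩ := key
    linarith
  rw [← hsum, ← hu]
  exact Finset.sum_le_sum_of_subset_of_nonneg (Finset.subset_univ _)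
    fun e _ _ => mul_self_nonneg _

theorem compat {u w s : X → ℤ} {x a b c A B C : X} (hu : dot u u = 3) (hw : dot w w = 3)
    (h : dot u w = 1)
    (hnd : [x, a, b, c, A, B, C].Nodup) (hs : ∀ e ∈ [x, a, b, c, A, B, C], s e * s e = 1) :
    (coords u s x a b c A B C).Compat (coords w s x a b c A B C) := by
  set L := [x, a, b, c, A, B, C]
  have hin : ∀ p q : X → ℤ, ∑ e ∈ L.toFinset, p e * q e =
      (coords p s x a b c A B C).ip (coords q s x a b c A B C) := by
    intro p q
    rw [List.sum_toFinset _ hnd]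
    simp only [L, List.map_cons, List.map_nil, List.sum_cons, List.sum_nil, V7.ip, coords]
    have key : ∀ e ∈ L, s e * p e * (s e * q e) = p e * q e := fun e he => by
      linear_combination (p e * q e) * hs e he
    simp only [L, List.mem_cons, List.mem_nil_iff, or_false, forall_eq_or_imp, forall_eq] at key
    obtain ⟨k1, k2, k3, k4, k5, k6, k7⟩ := key
    linarith
  have hout : ∀ p q : X → ℤ, (coords p s x a b c A B C).ip (coords q s x a b c A B C) +
      ∑ e ∈ L.toFinsetᶜ, p e * q e = dot p q := fun p q => by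
    rw [← hin]; exact Finset.sum_add_sum_compl _ _
  have hbound : ∀ e, u e * w e ≤ u e * u e ∧ u e * w e ≤ w e * w e ∧
      -(u e * u e) ≤ u e * w e ∧ -(w e * w e) ≤ u e * w e := fun e => by
    rcases val_cases hu e with h1 | h1 | h1 <;> rcases val_cases hw e with h2 | h2 | h2 <;>
      simp [h1, h2]
  have b1 := Finset.sum_le_sum (s := L.toFinsetᶜ) fun e _ => (hbound e).1
  have b2 := Finset.sum_le_sum (s := L.toFinsetᶜ) fun e _ => (hbound e).2.1
  have b3 := Finset.sum_le_sum (s := L.toFinsetᶜ) fun e _ => (hbound e).2.2.1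
  have b4 := Finset.sum_le_sum (s := L.toFinsetᶜ) fun e _ => (hbound e).2.2.2
  rw [Finset.sum_neg_distrib] at b3 b4
  have o1 := hout u w
  have o2 := hout u u
  have o3 := hout w w
  rw [h] at o1
  rw [hu] at o2
  rw [hw] at o3
  refine ⟨?_, ?_, ?_, ?_⟩ <;> linarith

theorem small_coord {u s : X → ℤ} (hu : dot u u = 3) {e : X} (hs : s e * s e = 1) :
    Small (s e * u e) := by
  rcases mul_self_eq_one_iff.mp hs with h | h <;>
    rcases val_cases hu e with h1 | h1 | h1 <;> simp [Small, h, h1]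

/-- A family of pairwise sharing vectors matched with a second one has a common coordinate. -/
theorem sunflower {J : Type*} [Fintype J] [DecidableEq J] (hJ : 4 ≤ Fintype.card J)
    (w u : J → X → ℤ) (hw : ∀ j, dot (w j) (w j) = 3) (hu : ∀ j, dot (u j) (u j) = 3)
    (hww : ∀ i j, i ≠ j → Share (w i) (w j)) (huu : ∀ i j, i ≠ j → Share (u i) (u j))
    (huw : ∀ j, Share (u j) (w j)) (horth : ∀ i j, i ≠ j → dot (u i) (w j) = 0) :
    ∃ e, ∀ j, w j e ≠ 0 := by
  by_contra hno
  push Not at hno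
  by_cases htriple : ∃ i j k, i ≠ j ∧ i ≠ k ∧ j ≠ k ∧ ∃ e, w i e ≠ 0 ∧ w j e ≠ 0 ∧ w k e ≠ 0
  · obtain ⟨i, j, k, hij, hik, hjk, x, xi, xj, xk⟩ := htriple
    obtain ⟨l, hl⟩ := hno x
    have hli : l ≠ i := fun h => xi (h ▸ hl)
    have hlj : l ≠ j := fun h => xj (h ▸ hl)
    have hlk : l ≠ k := fun h => xk (h ▸ hl)
    obtain ⟨a, a1, a2, -⟩ := hww i l hli.symm
    obtain ⟨b, b1, b2, -⟩ := hww j l hlj.symm
    obtain ⟨c, c1, c2, -⟩ := hww k l hlk.symm
    have al : w l a ≠ 0 := a1 ▸ a2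
    have bl : w l b ≠ 0 := b1 ▸ b2
    have cl : w l c ≠ 0 := c1 ▸ c2
    have ax : a ≠ x := fun h => (h ▸ al) hl
    have bx : b ≠ x := fun h => (h ▸ bl) hl
    have cx : c ≠ x := fun h => (h ▸ cl) hl
    have ab : a ≠ b := fun h => ax ((hww i j hij).eq_of_both a2 (h ▸ b2) xi xj)
    have ac : a ≠ c := fun h => ax ((hww i k hik).eq_of_both a2 (h ▸ c2) xi xk)
    have bc : b ≠ c := fun h => bx ((hww j k hjk).eq_of_both b2 (h ▸ c2) xj xk)
    obtain ⟨A, A2, Ax, Aa, A0⟩ := third (hw i) xi a2 ax.symm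
    obtain ⟨B, B2, Bx, Bb, B0⟩ := third (hw j) xj b2 bx.symm
    obtain ⟨C, C2, Cx, Cc, C0⟩ := third (hw k) xk c2 cx.symm
    obtain ⟨c', c'2, c'a, c'b, D0⟩ := third (hw l) al bl ab
    have hc' : c' = c := by
      by_contra h
      exact cl (D0 c ac.symm bc.symm (Ne.symm h))
    subst hc'
    have Ab : A ≠ b := fun h => bx ((hww i j hij).eq_of_both (h ▸ A2) b2 xi xj)
    have Ac : A ≠ c' := fun h => cx ((hww i k hik).eq_of_both (h ▸ A2) c2 xi xk)
    have Ba : B ≠ a := fun h => ax ((hww i j hij).eq_of_both a2 (h ▸ B2) xi xj)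
    have Bc : B ≠ c' := fun h => cx ((hww j k hjk).eq_of_both (h ▸ B2) c2 xj xk)
    have Ca : C ≠ a := fun h => ax ((hww i k hik).eq_of_both a2 (h ▸ C2) xi xk)
    have Cb : C ≠ b := fun h => bx ((hww j k hjk).eq_of_both b2 (h ▸ C2) xj xk)
    have AB : A ≠ B := fun h => Ax ((hww i j hij).eq_of_both A2 (h ▸ B2) xi xj)
    have AC : A ≠ C := fun h => Ax ((hww i k hik).eq_of_both A2 (h ▸ C2) xi xk)
    have BC : B ≠ C := fun h => Bx ((hww j k hjk).eq_of_both B2 (h ▸ C2) xj xk)
    have hnd : [x, a, b, c', A, B, C].Nodup := by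
      simp [ax.symm, bx.symm, cx.symm, Ax.symm, Bx.symm, Cx.symm, ab, ac, bc, Aa.symm, Ab.symm,
        Ac.symm, Ba.symm, Bb.symm, Bc.symm, Ca.symm, Cb.symm, Cc.symm, AB, AC, BC]
    let s : X → ℤ := fun e =>
      if w i e ≠ 0 then w i e else if w j e ≠ 0 then w j e else w k e
    have s_i : ∀ e, w i e ≠ 0 → s e = w i e := fun e he => by simp [s, he]
    have s_j : ∀ e, w j e ≠ 0 → s e = w j e := fun e he => by
      by_cases h : w i e = 0
      · simp [s, h, he]
      · rw [s_i e h]; exact (hww i j hij).value h he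
    have s_k : ∀ e, w k e ≠ 0 → s e = w k e := fun e he => by
      by_cases h : w i e = 0
      · by_cases h' : w j e = 0
        · simp [s, h, h']
        · rw [s_j e h']; exact (hww j k hjk).value h' he
      · rw [s_i e h]; exact (hww i k hik).value h he
    have hs : ∀ e ∈ [x, a, b, c', A, B, C], s e * s e = 1 := by
      simp only [List.mem_cons, List.mem_nil_iff, or_false, forall_eq_or_imp, forall_eq]
      refine ⟨?_, ?_, ?_, ?_, ?_, ?_, ?_⟩
      · rw [s_i x xi]; exact mul_self_of_ne (hw i) xi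
      · rw [s_i a a2]; exact mul_self_of_ne (hw i) a2
      · rw [s_j b b2]; exact mul_self_of_ne (hw j) b2
      · rw [s_k c' c2]; exact mul_self_of_ne (hw k) c2
      · rw [s_i A A2]; exact mul_self_of_ne (hw i) A2
      · rw [s_j B B2]; exact mul_self_of_ne (hw j) B2
      · rw [s_k C C2]; exact mul_self_of_ne (hw k) C2
    simp only [List.mem_cons, List.mem_nil_iff, or_false, forall_eq_or_imp, forall_eq] at hs
    obtain ⟨sx, sa, sb, sc, sA, sB, sC⟩ := hs
    have hs : ∀ e ∈ [x, a, b, c', A, B, C], s e * s e = 1 := by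
      simp [sx, sa, sb, sc, sA, sB, sC]
    have hrow : ∀ m, ∀ t : J → ℤ, (∀ n, dot (u m) (w n) = t n) →
        Row (s x * u m x) (s a * u m a) (s b * u m b) (s c' * u m c') (s A * u m A) (s B * u m B)
          (s C * u m C) (t i) (t j) (t k) (t l) := by
      intro m t ht
      refine ⟨?_, ?_, ?_, ?_, ?_⟩
      · rw [← ht i, dot_three _ ax.symm Ax.symm Aa.symm A0, s_i x xi, s_i a a2, s_i A A2]; ring
      · rw [← ht j, dot_three _ bx.symm Bx.symm Bb.symm B0, s_j x xj, s_j b b2, s_j B B2]; ring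
      · rw [← ht k, dot_three _ cx.symm Cx.symm Cc.symm C0, s_k x xk, s_k c' c2, s_k C C2]; ring
      · rw [← ht l, dot_three _ ab ac bc D0, s_i a a2, s_j b b2, s_k c' c2, a1, b1, c1]; ring
      · have h7 := seven_le (hu m) hnd hs
        simp only [coords, V7.ip] at h7
        linarith
    have hone : ∀ m : J, ∀ p q r : X, p ≠ q → p ≠ r → q ≠ r →
        s p * s p = 1 → s q * s q = 1 → s r * s r = 1 → w m p ≠ 0 → w m q ≠ 0 → w m r ≠ 0 →
        (∀ f, f ≠ p → f ≠ q → f ≠ r → w m f = 0) →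
        s p * u m p * (s p * u m p) + s q * u m q * (s q * u m q) +
          s r * u m r * (s r * u m r) = 1 := by
      intro m p q r pq pr qr sp sq sr wp wq wr w0
      have e := (huw m).count (hu m)
      rw [← Finset.sum_subset (Finset.subset_univ ({p, q, r} : Finset X)) (fun f _ hf => by
        simp only [Finset.mem_insert, Finset.mem_singleton, not_or] at hf
        simp [w0 f hf.1 hf.2.1 hf.2.2]), Finset.sum_insert (by simp [pq, pr]),
        Finset.sum_insert (by simp [qr]), Finset.sum_singleton, mul_self_of_ne (hw m) wp,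
        mul_self_of_ne (hw m) wq, mul_self_of_ne (hw m) wr] at e
      linear_combination e + (u m p * u m p) * sp + (u m q * u m q) * sq + (u m r * u m r) * sr
    have ht : ∀ m n, dot (u m) (w n) = if n = m then 1 else 0 := fun m n => by
      split_ifs with h
      · subst h; exact (huw n).dot_eq (hu n)
      · exact horth m n (Ne.symm h)
    have rA := hrow i _ (ht i)
    have rB := hrow j _ (ht j)
    have rC := hrow k _ (ht k)
    have rD := hrow l _ (ht l)
    simp only [if_true, if_neg hij, if_neg hij.symm, if_neg hik, if_neg hik.symm, if_neg hjk,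
      if_neg hjk.symm, if_neg hli, if_neg hli.symm, if_neg hlj, if_neg hlj.symm, if_neg hlk,
      if_neg hlk.symm] at rA rB rC rD
    have oA := hone i x a A ax.symm Ax.symm Aa.symm sx sa sA xi a2 A2 A0
    have oB := hone j x b B bx.symm Bx.symm Bb.symm sx sb sB xj b2 B2 B0
    have oC := hone k x c' C cx.symm Cx.symm Cc.symm sx sc sC xk c2 C2 C0
    have oD := hone l a b c' ab ac bc sa sb sc al bl cl D0
    have dA := classify_A (small_coord (hu i) sx) (small_coord (hu i) sa) (small_coord (hu i) sb)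
      (small_coord (hu i) sc) rA oA
    have rB' : Row (s x * u j x) (s b * u j b) (s a * u j a) (s c' * u j c') (s B * u j B)
        (s A * u j A) (s C * u j C) 1 0 0 0 :=
      ⟨rB.eB, rB.eA, rB.eC, by linarith [rB.eD], by linarith [rB.norm]⟩
    have dB := classify_A (small_coord (hu j) sx) (small_coord (hu j) sb) (small_coord (hu j) sa)
      (small_coord (hu j) sc) rB' oB
    have rC' : Row (s x * u k x) (s c' * u k c') (s a * u k a) (s b * u k b) (s C * u k C)
        (s A * u k A) (s B * u k B) 1 0 0 0 :=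
      ⟨rC.eC, rC.eA, rC.eB, by linarith [rC.eD], by linarith [rC.norm]⟩
    have dC := classify_A (small_coord (hu k) sx) (small_coord (hu k) sc) (small_coord (hu k) sa)
      (small_coord (hu k) sb) rC' oC
    have dD := classify_D (small_coord (hu l) sx) (small_coord (hu l) sa) (small_coord (hu l) sb)
      (small_coord (hu l) sc) rD oD
    have hc : ∀ p q, p ≠ q → (coords (u p) s x a b c' A B C).Compat
        (coords (u q) s x a b c' A B C) := fun p q hpq =>
      compat (hu p) (hu q) ((huu p q hpq).dot_eq (hu p)) hnd hs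
    refine no_four ?_ ?_ ?_ ?_ (hc l i hli) (hc l j hlj) (hc l k hlk) (hc i j hij) (hc i k hik)
      (hc j k hjk)
    · rcases dA with ⟨h1, h2, h3, h4, h5, h6, h7⟩ | ⟨h1, h2, h3, h4, h5, h6, h7⟩ | ⟨h1, h2, h3, h4, h5, h6, h7⟩ | ⟨h1, h2, h3, h4, h5, h6, h7⟩ <;>
        simp [coords, h1, h2, h3, h4, h5, h6, h7]
    · rcases dB with ⟨h1, h2, h3, h4, h5, h6, h7⟩ | ⟨h1, h2, h3, h4, h5, h6, h7⟩ | ⟨h1, h2, h3, h4, h5, h6, h7⟩ | ⟨h1, h2, h3, h4, h5, h6, h7⟩ <;>
        simp [coords, h1, h2, h3, h4, h5, h6, h7]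
    · rcases dC with ⟨h1, h2, h3, h4, h5, h6, h7⟩ | ⟨h1, h2, h3, h4, h5, h6, h7⟩ | ⟨h1, h2, h3, h4, h5, h6, h7⟩ | ⟨h1, h2, h3, h4, h5, h6, h7⟩ <;>
        simp [coords, h1, h2, h3, h4, h5, h6, h7]
    · rcases dD with ⟨h1, h2, h3, h4, h5, h6, h7⟩ | ⟨h1, h2, h3, h4, h5, h6, h7⟩ | ⟨h1, h2, h3, h4, h5, h6, h7⟩ <;>
        simp [coords, h1, h2, h3, h4, h5, h6, h7]
  · push Not at htriple
    obtain ⟨T, -, hT⟩ := Finset.exists_subset_card_eq (s := (Finset.univ : Finset J)) hJ
    let S : X → ℤ := fun e => ∑ n ∈ T, w n e * w n e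
    have hS2 : ∀ e, S e ≤ 2 := by
      intro e
      have e' : S e = ((T.filter fun n => w n e ≠ 0).card : ℤ) := by
        rw [Finset.card_filter, Nat.cast_sum]
        refine Finset.sum_congr rfl fun n _ => ?_
        by_cases h : w n e = 0
        · simp [h]
        · simp [h, mul_self_of_ne (hw n) h]
      rw [e']
      by_contra h
      have h3 : 2 < (T.filter fun n => w n e ≠ 0).card := by omega
      obtain ⟨p, hp, q, hq, r, hr, pq, pr, qr⟩ := Finset.two_lt_card.mp h3
      simp only [Finset.mem_filter] at hp hq hr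
      exact hr.2 (htriple p q r pq pr qr e hp.2 hq.2)
    have hS0 : ∀ e, 0 ≤ S e := fun e => Finset.sum_nonneg fun n _ => mul_self_nonneg _
    have h1 : ∑ e, S e = 12 := by
      show ∑ e, ∑ n ∈ T, w n e * w n e = 12
      rw [Finset.sum_comm, Finset.sum_congr rfl (fun n _ => show ∑ e, w n e * w n e = 3 from hw n),
        Finset.sum_const, hT]
      norm_num
    have h2 : ∑ e, S e * S e = 24 := by
      simp only [S, Finset.sum_mul_sum]
      rw [Finset.sum_comm]
      have : ∀ n ∈ T, ∑ e, ∑ n' ∈ T, w n e * w n e * (w n' e * w n' e) = 6 := by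
        intro n hn
        rw [Finset.sum_comm, ← Finset.add_sum_erase _ _ hn]
        have e1 : ∑ e, w n e * w n e * (w n e * w n e) = 3 := by
          refine Eq.trans (Finset.sum_congr rfl fun e _ => ?_) (hw n)
          rcases val_cases (hw n) e with h | h | h <;> simp [h]
        rw [e1, Finset.sum_congr rfl (fun n' hn' => (hww n n'
          (Finset.ne_of_mem_erase hn').symm).count (hw n)), Finset.sum_const,
          Finset.card_erase_of_mem hn, hT]
        norm_num
      rw [Finset.sum_congr rfl this, Finset.sum_const, hT]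
      norm_num
    have heven : ∀ e, ∃ z : ℤ, S e = 2 * z := by
      intro e
      have h3 : ∑ f, S f * (2 - S f) = 0 := by
        simp only [mul_sub, Finset.sum_sub_distrib, ← Finset.sum_mul, h1, h2]
        norm_num
      have := (Finset.sum_eq_zero_iff_of_nonneg fun f _ =>
        mul_nonneg (hS0 f) (by linarith [hS2 f])).mp h3 e (Finset.mem_univ _)
      rcases mul_eq_zero.mp this with h | h
      · exact ⟨0, by omega⟩
      · exact ⟨1, by omega⟩
    have hev : ∀ e, (2 : ℤ) ∣ ∑ n ∈ T, w n e := by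
      intro e
      obtain ⟨z, hz⟩ := heven e
      have : (2 : ℤ) ∣ ∑ n ∈ T, (w n e * w n e - w n e) := Finset.dvd_sum fun n _ => by
        rcases val_cases (hw n) e with h | h | h <;> simp [h]
      rw [Finset.sum_sub_distrib] at this
      have hz' : (2 : ℤ) ∣ ∑ n ∈ T, w n e * w n e := ⟨z, hz⟩
      omega
    obtain ⟨j0, hj0⟩ : T.Nonempty := Finset.card_pos.mp (by omega)
    have hkey : ∑ n ∈ T, dot (u j0) (w n) = 1 := by
      rw [Finset.sum_eq_single j0 (fun n _ h => horth j0 n h.symm) (fun h => absurd hj0 h)]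
      exact (huw j0).dot_eq (hu j0)
    simp only [dot] at hkey
    rw [Finset.sum_comm] at hkey
    have h2dvd : (2 : ℤ) ∣ ∑ e, ∑ n ∈ T, u j0 e * w n e := Finset.dvd_sum fun e _ => by
      rw [← Finset.mul_sum]
      exact Dvd.dvd.mul_left (hev e) _
    rw [hkey] at h2dvd
    norm_num at h2dvd

/-- Hypotheses on a grid of vectors. -/
structure IsGrid {I J : Type*} (v : I → J → X → ℤ) : Prop where
  norm : ∀ i j, dot (v i j) (v i j) = 3
  row : ∀ i j l, j ≠ l → Share (v i j) (v i l)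
  col : ∀ i k j, i ≠ k → Share (v i j) (v k j)
  orth : ∀ i k j l, i ≠ k → j ≠ l → dot (v i j) (v k l) = 0

theorem IsGrid.swap {I J : Type*} {v : I → J → X → ℤ} (h : IsGrid v) :
    IsGrid (fun j i => v i j) :=
  ⟨fun j i => h.norm i j, fun j i k hik => h.col i k j hik, fun j l i hjl => h.row i j l hjl,
    fun j l i k hjl hik => h.orth i k j l hik hjl⟩

variable {I J : Type*} [Fintype I] [Fintype J] {v : I → J → X → ℤ}

theorem IsGrid.exists_common (h : IsGrid v) (hI : 2 ≤ Fintype.card I) (hJ : 4 ≤ Fintype.card J)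
    (i : I) : ∃ e, ∀ j, v i j e ≠ 0 := by
  classical
  obtain ⟨k, hk⟩ := Fintype.exists_ne_of_one_lt_card (by omega) i
  exact sunflower hJ (v i) (v k) (h.norm i) (h.norm k) (h.row i) (h.row k)
    (fun j => h.col k i j hk) (fun j l hjl => h.orth k i j l hk hjl)

theorem IsGrid.common_zero (h : IsGrid v) (hJ : 4 ≤ Fintype.card J) {i k : I} (hik : i ≠ k)
    {x : X} (hx : ∀ j, v i j x ≠ 0) (j : J) : v k j x = 0 := by
  classical
  by_contra hxj
  have hother : ∀ l, l ≠ j → ∃ e, e ≠ x ∧ v k j e ≠ 0 ∧ v i l e ≠ 0 := by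
    intro l hl
    by_contra hc
    push Not at hc
    have := h.orth k i j l hik.symm hl.symm
    rw [dot, Finset.sum_eq_single x (fun e _ he => by
      by_cases h1 : v k j e = 0
      · simp [h1]
      · simp [hc e he h1]) (by simp)] at this
    exact (mul_ne_zero hxj (hx l)) this
  choose f hf1 hf2 hf3 using hother
  have hinj : Function.Injective (fun l : {l // l ≠ j} =>
      (⟨f l.1 l.2, Finset.mem_erase.mpr ⟨hf1 l.1 l.2, mem_supp.mpr (hf2 l.1 l.2)⟩⟩ :
        ↥((supp (v k j)).erase x))) := by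
    intro a b hab
    by_contra hne
    have hab' : f a.1 a.2 = f b.1 b.2 := congrArg Subtype.val hab
    exact hf1 a.1 a.2 ((h.row i a.1 b.1 (fun e => hne (Subtype.ext e))).eq_of_both (hf3 a.1 a.2)
      (hab' ▸ hf3 b.1 b.2) (hx _) (hx _))
  have := Fintype.card_le_of_injective _ hinj
  rw [Fintype.card_coe, Finset.card_erase_of_mem (mem_supp.mpr hxj), card_supp (h.norm k j),
    Fintype.card_subtype_compl, Fintype.card_subtype_eq] at this
  omega

/-- The grid splits. -/
theorem IsGrid.exists_split (h : IsGrid v) (hI : 2 ≤ Fintype.card I) (hJ : 4 ≤ Fintype.card J)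
    (hI3 : Fintype.card I ≠ 3) :
    ∃ (x : I → X) (y : J → X) (z : I × J → X) (sx : I → ℤ) (sy : J → ℤ) (sz : I × J → ℤ),
      Function.Injective (Sum.elim x (Sum.elim y z)) ∧
      (∀ i, sx i * sx i = 1) ∧ (∀ j, sy j * sy j = 1) ∧ (∀ p, sz p * sz p = 1) ∧
      (∀ i j f, f ≠ x i → f ≠ y j → f ≠ z (i, j) → v i j f = 0) ∧
      (∀ i j, v i j (x i) = sx i ∧ v i j (y j) = sy j ∧ v i j (z (i, j)) = sz (i, j)) := by
  classical
  haveI : Nonempty I := Fintype.card_pos_iff.mp (by omega)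
  haveI : Nonempty J := Fintype.card_pos_iff.mp (by omega)
  choose x hx using h.exists_common hI hJ
  have hx0 : ∀ i k, i ≠ k → ∀ j, v k j (x i) = 0 := fun i k hik => h.common_zero hJ hik (hx i)
  have hcol : ∀ j, ∃ e, ∀ i, v i j e ≠ 0 := by
    intro j
    rcases Nat.lt_or_ge (Fintype.card I) 4 with hlt | hge
    · obtain ⟨i, k, hik, huniv⟩ := Finset.card_eq_two.mp
        (show (Finset.univ : Finset I).card = 2 by rw [Finset.card_univ]; omega)
      obtain ⟨e, e1, e2, -⟩ := h.col i k j hik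
      refine ⟨e, fun m => ?_⟩
      have : m ∈ ({i, k} : Finset I) := huniv ▸ Finset.mem_univ m
      simp only [Finset.mem_insert, Finset.mem_singleton] at this
      rcases this with rfl | rfl
      · exact e2
      · exact e1 ▸ e2
    · exact h.swap.exists_common (by omega) hge j
  choose y hy using hcol
  have hother : ∀ i : I, ∃ k, k ≠ i := fun i => Fintype.exists_ne_of_one_lt_card (by omega) i
  have hyx : ∀ i j, y j ≠ x i := fun i j e => by
    obtain ⟨k, hk⟩ := hother i
    exact hy j k (e ▸ hx0 i k hk.symm j)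
  have hy0 : ∀ j l, j ≠ l → ∀ i, v i l (y j) = 0 := by
    intro j l hjl i
    by_contra hne
    exact hyx i j ((h.row i j l hjl).eq_of_both (hy j i) hne (hx i j) (hx i l))
  choose z hz hzx hzy hz0 using fun p : I × J =>
    third (h.norm p.1 p.2) (hx p.1 p.2) (hy p.2 p.1) (hyx p.1 p.2).symm
  obtain ⟨j₀⟩ := (inferInstance : Nonempty J)
  obtain ⟨i₀⟩ := (inferInstance : Nonempty I)
  have hzuniq : ∀ p q : I × J, p ≠ q → v q.1 q.2 (z p) = 0 := by
    rintro ⟨i, j⟩ ⟨k, l⟩ hne
    by_contra hv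
    by_cases hik : i = k
    · subst hik
      exact hzx (i, j) ((h.row i j l fun e => hne (e ▸ rfl)).eq_of_both (hz (i, j)) hv
        (hx i j) (hx i l))
    by_cases hjl : j = l
    · subst hjl
      exact hzy (i, j) ((h.col i k j hik).eq_of_both (hz (i, j)) hv (hy j i) (hy j k))
    have hd := h.orth i k j l hik hjl
    rw [dot_comm, dot_three _ (hyx i j).symm (hzx (i, j)).symm (hzy (i, j)).symm (hz0 (i, j)),
      hx0 i k hik l, hy0 j l hjl k, zero_mul, zero_mul, zero_add, zero_add] at hd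
    exact mul_ne_zero hv (hz (i, j)) hd
  refine ⟨x, y, z, fun i => v i j₀ (x i), fun j => v i₀ j (y j), fun p => v p.1 p.2 (z p),
    ?_, fun i => mul_self_of_ne (h.norm i j₀) (hx i j₀),
    fun j => mul_self_of_ne (h.norm i₀ j) (hy j i₀),
    fun p => mul_self_of_ne (h.norm p.1 p.2) (hz p), fun i j => hz0 (i, j), fun i j => ?_⟩
  · rintro (a | a | a) (b | b | b) e <;> simp only [Sum.elim_inl, Sum.elim_inr] at e
    · congr 1
      by_contra hne
      exact hx b j₀ (e ▸ hx0 a b hne j₀)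
    · exact absurd e (hyx a b).symm
    · obtain ⟨i, j⟩ := b
      by_cases hai : a = i
      · subst hai; exact absurd e.symm (hzx (a, j))
      · exact absurd (hx0 a i hai j) (e ▸ hz (i, j))
    · exact absurd e (hyx b a)
    · congr 2
      by_contra hne
      exact hy b i₀ (e ▸ hy0 a b hne i₀)
    · obtain ⟨i, j⟩ := b
      by_cases haj : a = j
      · subst haj; exact absurd e.symm (hzy (i, a))
      · exact absurd (hy0 a j haj i) (e ▸ hz (i, j))
    · obtain ⟨i, j⟩ := a
      by_cases hbi : b = i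
      · subst hbi; exact absurd e (hzx (b, j))
      · exact absurd (hx0 b i hbi j) (e ▸ hz (i, j))
    · obtain ⟨i, j⟩ := a
      by_cases hbj : b = j
      · subst hbj; exact absurd e (hzy (i, b))
      · exact absurd (hy0 b j hbj i) (e ▸ hz (i, j))
    · congr 2
      by_contra hne
      exact hz b (e ▸ hzuniq a b hne)
  · refine ⟨?_, ?_, rfl⟩
    · by_cases hjj : j = j₀
      · rw [hjj]
      · exact (h.row i j j₀ hjj).value (hx i j) (hx i j₀)
    · by_cases hii : i = i₀
      · rw [hii]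
      · exact (h.col i i₀ j hii).value (hy j i) (hy j i₀)

end Cfsg.Agent.Char.CyclicTI.Grid
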