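import Cfsg.Agent.Lib.Char.CyclicTI.Basic
import Cfsg.Agent.Lib.Char.CyclicTI.Grid
import Cfsg.Agent.Lib.Char.Integral
import Cfsg.Agent.Lib.Char.GaloisRat

/-!
# Cyclic TI families: consequences of the axioms, and existence
-/

set_option linter.style.haveILetI false

namespace Cfsg.Agent.Char.CyclicTI

open scoped ComplexConjugate
open Cfsg.Agent.Char

universe u

variable {G : Type u} [Group G] [Fintype G] {W₁ W₂ : Subgroup G}

/-- An irreducible character up to sign. -/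
abbrev SignIrr (a : G → ℂ) : Prop := Cfsg.IsIrrCharacter G a ∨ Cfsg.IsIrrCharacter G (-a)

theorem SignIrr.isClassFunction {a : G → ℂ} (h : SignIrr a) : Cfsg.IsClassFunction G a := by
  rcases h with h | h
  · exact IsCharacter.isClassFunction (IsIrrCharacter.isCharacter h)
  · intro g k
    have := IsCharacter.isClassFunction (IsIrrCharacter.isCharacter h) g k
    simpa using this

theorem SignIrr.eq_or_neg {a b : G → ℂ} (ha : SignIrr a) (hb : SignIrr b)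
    (h : Cfsg.classInner a b ≠ 0) : a = b ∨ a = -b := by
  by_contra hc
  push Not at hc
  apply h
  rcases ha with ha | ha <;> rcases hb with hb | hb
  · exact classInner_irr_of_ne ha hb hc.1
  · have := classInner_irr_of_ne ha hb hc.2
    rwa [classInner_neg_right, neg_eq_zero] at this
  · have := classInner_irr_of_ne ha hb (fun e => hc.2 (by rw [← e, neg_neg]))
    rwa [classInner_neg_left, neg_eq_zero] at this
  · have := classInner_irr_of_ne ha hb (fun e => hc.1 (neg_injective e))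
    rwa [classInner_neg_left, classInner_neg_right, neg_neg] at this

theorem SignIrr.map_value {a : G → ℂ} (ha : SignIrr a) (σ : ℂ →+* ℂ) {k : ℕ}
    (hk : ∀ z : ℂ, z ^ Nat.card G = 1 → σ z = z ^ k) (g : G) : σ (a g) = a (g ^ k) := by
  rcases ha with h | h
  · exact CharGalois.map_char (IsIrrCharacter.isCharacter h) σ hk g
  · have := CharGalois.map_char (IsIrrCharacter.isCharacter h) σ hk g
    simpa using this

theorem SignIrr.twist {a : G → ℂ} (ha : SignIrr a) (σ : ℂ ≃+* ℂ) :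
    SignIrr (fun g => σ (a g)) := by
  rcases ha with h | h
  · exact Or.inl (CharGalois.IsIrrCharacter.twist h σ)
  · have := CharGalois.IsIrrCharacter.twist h σ
    refine Or.inr ?_
    convert this using 1
    funext g
    simp

theorem SignIrr.isIntegral {a : G → ℂ} (ha : SignIrr a) (g : G) : IsIntegral ℤ (a g) := by
  rcases ha with h | h
  · exact IsCharacter.isIntegral (IsIrrCharacter.isCharacter h) g
  · simpa using (IsCharacter.isIntegral (IsIrrCharacter.isCharacter h) g).neg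

theorem coeff_mul_eq {φ ψ : ↥(W₁ ⊔ W₂) →* ℂˣ} (a : (↥(W₁ ⊔ W₂) →* ℂˣ) → ℂ)
    (h : a 1 - a φ - a ψ + a (φ * ψ) = 0) : a (φ * ψ) = a φ + a ψ - a 1 := by
  linear_combination h

variable [Fintype ↥(W₁ ⊔ W₂)] {χ : (↥(W₁ ⊔ W₂) →* ℂˣ) → (G → ℂ)}

theorem indFun_alpha (hχ : Cfsg.IsCyclicTIFamily W₁ W₂ χ) {φ ψ : ↥(W₁ ⊔ W₂) →* ℂˣ}
    (hφ : φ ≠ 1) (hψ : ψ ≠ 1) (hφ2 : ∀ w : ↥(W₁ ⊔ W₂), (w : G) ∈ W₂ → φ w = 1)
    (hψ1 : ∀ w : ↥(W₁ ⊔ W₂), (w : G) ∈ W₁ → ψ w = 1) :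
    Cfsg.indFun (W₁ ⊔ W₂) (alpha φ ψ) = χ 1 - χ φ - χ ψ + χ (φ * ψ) := by
  rw [show alpha φ ψ = fun w => 1 - (φ w : ℂ) - (ψ w : ℂ) + (φ w : ℂ) * (ψ w : ℂ) from rfl,
    hχ.induced_eq φ ψ hφ hψ hφ2 hψ1, hχ.map_one]
  rfl

theorem inner_alpha (hχ : Cfsg.IsCyclicTIFamily W₁ W₂ χ) {θ : G → ℂ}
    (hθ : Cfsg.IsClassFunction G θ) {φ ψ : ↥(W₁ ⊔ W₂) →* ℂˣ}
    (hφ2 : ∀ w : ↥(W₁ ⊔ W₂), (w : G) ∈ W₂ → φ w = 1)
    (hψ1 : ∀ w : ↥(W₁ ⊔ W₂), (w : G) ∈ W₁ → ψ w = 1) :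
    Cfsg.classInner (fun w : ↥(W₁ ⊔ W₂) => θ w) (alpha φ ψ) =
      Cfsg.classInner θ (χ 1) - Cfsg.classInner θ (χ φ) - Cfsg.classInner θ (χ ψ) +
        Cfsg.classInner θ (χ (φ * ψ)) := by
  by_cases hφ : φ = 1
  · subst hφ
    rw [alpha_left_one, classInner_zero_right, show (1 : ↥(W₁ ⊔ W₂) →* ℂˣ) * ψ = ψ by ext; simp]
    ring
  by_cases hψ : ψ = 1
  · subst hψ
    rw [alpha_right_one, classInner_zero_right, show φ * (1 : ↥(W₁ ⊔ W₂) →* ℂˣ) = φ by ext; simp]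
    ring
  rw [← classInner_indFun_right (W₁ ⊔ W₂) _ hθ, indFun_alpha hχ hφ hψ hφ2 hψ1,
    classInner_add_right, classInner_sub_right, classInner_sub_right]

variable (hW : Cfsg.IsSelfNormalizingCyclic W₁ W₂)
include hW

theorem zero_of_orth (hχ : Cfsg.IsCyclicTIFamily W₁ W₂ χ) {θ : G → ℂ}
    (hθ : Cfsg.IsClassFunction G θ) (horth : ∀ ω, Cfsg.classInner θ (χ ω) = 0)
    (w : ↥(W₁ ⊔ W₂)) (h₁ : (w : G) ∉ W₁) (h₂ : (w : G) ∉ W₂) : θ w = 0 := by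
  haveI := isMulCommutative1 hW
  haveI := isMulCommutative2 hW
  have S := split_of hW
  refine zero_on_V S (F := fun w : ↥(W₁ ⊔ W₂) => θ w) (fun f g => ?_) w h₁ h₂
  rw [inner_alpha hχ hθ (pull1_apply_of_mem S f) (pull2_apply_of_mem S g)]
  simp [horth]

theorem coeff_add (hχ : Cfsg.IsCyclicTIFamily W₁ W₂ χ) {θ : G → ℂ}
    (hθ : Cfsg.IsClassFunction G θ)
    (hV : ∀ w : ↥(W₁ ⊔ W₂), (w : G) ∉ W₁ → (w : G) ∉ W₂ → θ w = 0)
    {φ ψ : ↥(W₁ ⊔ W₂) →* ℂˣ}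
    (hφ2 : ∀ w : ↥(W₁ ⊔ W₂), (w : G) ∈ W₂ → φ w = 1)
    (hψ1 : ∀ w : ↥(W₁ ⊔ W₂), (w : G) ∈ W₁ → ψ w = 1) :
    Cfsg.classInner θ (χ (φ * ψ)) =
      Cfsg.classInner θ (χ φ) + Cfsg.classInner θ (χ ψ) - Cfsg.classInner θ (χ 1) := by
  have h := inner_alpha hχ hθ hφ2 hψ1
  have h0 : Cfsg.classInner (fun w : ↥(W₁ ⊔ W₂) => θ w) (alpha φ ψ) = 0 := by
    simp only [Cfsg.classInner]
    rw [Finset.sum_eq_zero, mul_zero]
    intro w _
    by_cases hw : (w : G) ∈ W₁ ∨ (w : G) ∈ W₂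
    · rw [alpha_vanish hφ2 hψ1 w hw, map_zero, mul_zero]
    · push Not at hw
      rw [hV w hw.1 hw.2, zero_mul]
  rw [h0] at h
  linear_combination -h

theorem exists_ab (hodd : Odd (Nat.card ↥(W₁ ⊔ W₂))) :
    (∃ a : W₁, a ≠ 1 ∧ a * a ≠ 1) ∧ (∃ b : W₂, b ≠ 1 ∧ b * b ≠ 1) := by
  have key : ∀ K : Subgroup G, K ≤ W₁ ⊔ W₂ → K ≠ ⊥ → ∃ a : K, a ≠ 1 ∧ a * a ≠ 1 := by
    intro K hK hne
    obtain ⟨a, ha, ha1⟩ := (Subgroup.bot_or_exists_ne_one K).resolve_left hne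
    have ha' : (⟨a, ha⟩ : K) ≠ 1 := fun h => ha1 (congrArg Subtype.val h)
    refine ⟨⟨a, ha⟩, ha', fun h => ha' ?_⟩
    have hoddK : Odd (Nat.card K) := hodd.of_dvd_nat (Subgroup.card_dvd_of_le hK)
    obtain ⟨m, hm⟩ := hoddK
    have h2 := pow_card_eq_one' (x := (⟨a, ha⟩ : K))
    rwa [hm, pow_succ, pow_mul, sq, h, one_pow, one_mul] at h2
  exact ⟨key W₁ le_sup_left hW.1, key W₂ le_sup_right hW.2.1⟩

omit [Fintype G] [Fintype ↥(W₁ ⊔ W₂)] in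
theorem mul_mem_V {a : W₁} {b : W₂} (ha : a ≠ 1) (hb : b ≠ 1) :
    ((inc1 W₁ W₂ a * inc2 W₁ W₂ b : ↥(W₁ ⊔ W₂)) : G) ∉ W₁ ∧
      ((inc1 W₁ W₂ a * inc2 W₁ W₂ b : ↥(W₁ ⊔ W₂)) : G) ∉ W₂ := by
  have S : Split W₁ W₂ := ⟨hW.2.2.1, hW.2.2.2.1⟩
  constructor
  · intro h
    have := (proj2_eq_one_iff S _).mpr h
    rw [map_mul, proj2_inc1, proj2_inc2, one_mul] at this
    exact hb this
  · intro h
    have := (proj1_eq_one_iff S _).mpr h
    rw [map_mul, proj1_inc1, proj1_inc2, mul_one] at this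
    exact ha this

theorem eq_of_agree (hodd : Odd (Nat.card ↥(W₁ ⊔ W₂))) (hχ : Cfsg.IsCyclicTIFamily W₁ W₂ χ)
    {θ : G → ℂ} (hθ : SignIrr θ) (ω : ↥(W₁ ⊔ W₂) →* ℂˣ)
    (heq : ∀ w : ↥(W₁ ⊔ W₂), (w : G) ∉ W₁ → (w : G) ∉ W₂ → θ w = (ω w : ℂ)) : θ = χ ω := by
  obtain ⟨⟨a, ha, ha2⟩, ⟨b, hb, hb2⟩⟩ := exists_ab hW hodd
  obtain ⟨ω', hω'⟩ : ∃ ω', Cfsg.classInner θ (χ ω') ≠ 0 := by
    by_contra hc
    push Not at hc
    have h0 := zero_of_orth hW hχ hθ.isClassFunction hc _ (mul_mem_V hW ha hb).1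
      (mul_mem_V hW ha hb).2
    rw [heq _ (mul_mem_V hW ha hb).1 (mul_mem_V hW ha hb).2] at h0
    exact Units.ne_zero _ h0
  obtain ⟨ε, hε, hθe⟩ : ∃ ε : ℂ, ε ≠ 0 ∧ θ = ε • χ ω' := by
    rcases hθ.eq_or_neg (hχ.irr_or_neg ω') hω' with h | h
    · exact ⟨1, one_ne_zero, by rw [h, one_smul]⟩
    · exact ⟨-1, by norm_num, by rw [h]; simp⟩
  have hlam : ∀ x : W₁, ∀ y : W₂, x ≠ 1 → y ≠ 1 →
      (ω (inc1 W₁ W₂ x) : ℂ) * ω (inc2 W₁ W₂ y) =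
        ε * ((ω' (inc1 W₁ W₂ x) : ℂ) * ω' (inc2 W₁ W₂ y)) := by
    intro x y hx hy
    obtain ⟨h1, h2⟩ := mul_mem_V hW hx hy
    have e := heq _ h1 h2
    rw [hθe, Pi.smul_apply, hχ.eq_on ω' _ h1 h2, smul_eq_mul, map_mul, map_mul, Units.val_mul,
      Units.val_mul] at e
    exact e.symm
  have hA : ∀ x : W₁, x ≠ 1 → x * x ≠ 1 →
      (ω (inc1 W₁ W₂ x) : ℂ) = ω' (inc1 W₁ W₂ x) := by
    intro x hx hx2
    have e1 := hlam x b hx hb
    have e2 := hlam (x * x) b hx2 hb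
    rw [map_mul, map_mul, map_mul, Units.val_mul, Units.val_mul] at e2
    have key : ((ω (inc1 W₁ W₂ x) : ℂ) - ω' (inc1 W₁ W₂ x)) *
        (ε * ((ω' (inc1 W₁ W₂ x) : ℂ) * ω' (inc2 W₁ W₂ b))) = 0 := by
      linear_combination e2 - (ω (inc1 W₁ W₂ x) : ℂ) * e1
    exact sub_eq_zero.mp ((mul_eq_zero.mp key).resolve_right
      (mul_ne_zero hε (mul_ne_zero (Units.ne_zero _) (Units.ne_zero _))))
  have hB : ∀ y : W₂, y ≠ 1 → y * y ≠ 1 →
      (ω (inc2 W₁ W₂ y) : ℂ) = ω' (inc2 W₁ W₂ y) := by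
    intro y hy hy2
    have e1 := hlam a y ha hy
    have e2 := hlam a (y * y) ha hy2
    rw [map_mul, map_mul, map_mul, Units.val_mul, Units.val_mul] at e2
    have key : ((ω (inc2 W₁ W₂ y) : ℂ) - ω' (inc2 W₁ W₂ y)) *
        (ε * ((ω' (inc1 W₁ W₂ a) : ℂ) * ω' (inc2 W₁ W₂ y))) = 0 := by
      linear_combination e2 - (ω (inc2 W₁ W₂ y) : ℂ) * e1
    exact sub_eq_zero.mp ((mul_eq_zero.mp key).resolve_right
      (mul_ne_zero hε (mul_ne_zero (Units.ne_zero _) (Units.ne_zero _))))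
  have hsq : ∀ (K : Subgroup G), K ≤ W₁ ⊔ W₂ → ∀ x : K, x ≠ 1 → x * x ≠ 1 := by
    intro K hK x hx h
    obtain ⟨m, hm⟩ := hodd.of_dvd_nat (Subgroup.card_dvd_of_le hK)
    have h2 := pow_card_eq_one' (x := x)
    rw [hm, pow_succ, pow_mul, sq, h, one_pow, one_mul] at h2
    exact hx h2
  have hω : ω = ω' := by
    ext w
    rw [← decomp (split_of hW) w, map_mul, map_mul, Units.val_mul, Units.val_mul]
    congr 1
    · by_cases h : proj1 (split_of hW) w = 1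
      · simp [h]
      · exact hA _ h (hsq W₁ le_sup_left _ h)
    · by_cases h : proj2 (split_of hW) w = 1
      · simp [h]
      · exact hB _ h (hsq W₂ le_sup_right _ h)
  subst hω
  have e := hlam a b ha hb
  have hε1 : ε = 1 := (mul_eq_right₀ (mul_ne_zero (Units.ne_zero _) (Units.ne_zero _))).mp e.symm
  rw [hθe, hε1, one_smul]

theorem galois_fixed (hodd : Odd (Nat.card ↥(W₁ ⊔ W₂))) (hχ : Cfsg.IsCyclicTIFamily W₁ W₂ χ)
    (ω : ↥(W₁ ⊔ W₂) →* ℂˣ) (σ : ℂ ≃+* ℂ) (hσ : ∀ w, σ (ω w : ℂ) = (ω w : ℂ)) (g : G) :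
    σ (χ ω g) = χ ω g := by
  have := eq_of_agree hW hodd hχ (SignIrr.twist (hχ.irr_or_neg ω) σ) ω (fun w h1 h2 => by
    rw [hχ.eq_on ω w h1 h2, hσ])
  exact congrFun this g

theorem exists_int (hodd : Odd (Nat.card ↥(W₁ ⊔ W₂))) (hχ : Cfsg.IsCyclicTIFamily W₁ W₂ χ)
    (ω : ↥(W₁ ⊔ W₂) →* ℂˣ) (g : G) (hg : Nat.Coprime (orderOf g) (orderOf ω)) :
    ∃ n : ℤ, χ ω g = n := by
  haveI := finite_dual ↥(W₁ ⊔ W₂)
  set N := Nat.card G
  haveI : NeZero N := ⟨Nat.card_pos.ne'⟩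
  set a := orderOf g
  set b := orderOf ω
  have ha : a ∣ N := orderOf_dvd_natCard g
  have hbW : b ∣ Nat.card ↥(W₁ ⊔ W₂) := orderOf_dvd_of_pow_eq_one (by
    ext w
    rw [MonoidHom.pow_apply, ← map_pow, pow_card_eq_one', map_one, MonoidHom.one_apply])
  have hb : b ∣ N := hbW.trans (Subgroup.card_subgroup_dvd_card _)
  have hfix : ∀ σ : ℂ ≃+* ℂ, σ (χ ω g) = χ ω g := by
    intro σ
    obtain ⟨k, hk, hσk⟩ := CharGalois.exists_exponent σ.toRingHom (Nat.card_pos (α := G)).ne'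
    obtain ⟨r, hr1, hr2⟩ := Nat.chineseRemainder hg k 1
    have hrab : r.Coprime (a * b) := by
      refine Nat.Coprime.mul_right ?_ ?_
      · unfold Nat.Coprime
        rw [Nat.ModEq.gcd_eq hr1]
        exact Nat.Coprime.coprime_dvd_right ha hk
      · unfold Nat.Coprime
        rw [Nat.ModEq.gcd_eq hr2, Nat.gcd_one_left]
    obtain ⟨v, hv⟩ := ZMod.unitsMap_surjective (hg.mul_dvd_of_dvd_of_dvd ha hb)
      (ZMod.unitOfCoprime r hrab)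
    set k' := (v : ZMod N).val
    have hk' : k'.Coprime N := ZMod.val_coe_unit_coprime v
    have hmod : k' ≡ r [MOD a * b] := by
      rw [← ZMod.natCast_eq_natCast_iff]
      have := congrArg Units.val hv
      rw [ZMod.unitsMap_val, ZMod.coe_unitOfCoprime, ZMod.cast_eq_val] at this
      exact this
    obtain ⟨τ, hτ⟩ := CharGalois.exists_galoisAut (Nat.card_pos (α := G)).ne' hk'
    have hτω : ∀ w, τ (ω w : ℂ) = (ω w : ℂ) := by
      intro w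
      have hb1 : (ω w : ℂ) ^ b = 1 := by
        rw [← Units.val_pow_eq_pow_val, ← MonoidHom.pow_apply, pow_orderOf_eq_one]
        rfl
      rw [hτ _ (by
        obtain ⟨m, hm⟩ := hb
        rw [show Nat.card G = b * m from hm, pow_mul, hb1, one_pow]), pow_eq_pow_mod k' hb1,
        ((hmod.of_dvd (dvd_mul_left b a)).trans hr2), ← pow_eq_pow_mod 1 hb1, pow_one]
    have e1 : σ (χ ω g) = χ ω (g ^ k) :=
      SignIrr.map_value (hχ.irr_or_neg ω) σ.toRingHom hσk g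
    have e2 : τ (χ ω g) = χ ω (g ^ k') :=
      SignIrr.map_value (hχ.irr_or_neg ω) τ.toRingHom hτ g
    have e3 : g ^ k = g ^ k' :=
      pow_eq_pow_iff_modEq.mpr (((hmod.of_dvd (dvd_mul_right a b)).trans hr1).symm)
    rw [e1, e3, ← e2, galois_fixed hW hodd hχ ω τ hτω]
  obtain ⟨q, hq⟩ := CharGalois.eq_rat_of_fixed (SignIrr.isIntegral (hχ.irr_or_neg ω) g) hfix
  obtain ⟨m, hm⟩ := exists_int_of_isIntegral (hq ▸ SignIrr.isIntegral (hχ.irr_or_neg ω) g)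
  exact ⟨m, by rw [hq, hm, Rat.cast_intCast]⟩

end Cfsg.Agent.Char.CyclicTI
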