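import Cfsg.Agent.Lib.Char.CyclicTI.Semi

/-!
# Characters of a group with a cyclic Hall complement to a normal subgroup
-/

set_option linter.style.haveILetI false

namespace Cfsg.Agent.Char.CyclicTI.Semi

open scoped ComplexConjugate commutatorElement
open Cfsg.Agent.Char Cfsg.Agent.Char.CyclicTI

universe u

variable {L : Type u} [Group L] [Fintype L] {K W₁ W₂ : Subgroup L} [hKn : K.Normal]
  (D : Semi K W₁ W₂)
include D

theorem card_fixed {y : L} (hy : y ∈ W₁) (hy1 : y ≠ 1) :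
    Nat.card {θ : Cfsg.IrrCharacter K // conjChar K y (θ : K → ℂ) = θ} = Nat.card W₂ := by
  classical
  have hb := card_fixed_irr (G := K) (fun k => conjHom K y k)
    (fun a b h => by
      obtain ⟨c, rfl⟩ := isConj_iff.mp h
      exact isConj_iff.mpr ⟨conjHom K y c, by simp only [map_mul, map_inv]⟩)
    (fun χ hχ => isIrrCharacter_conjChar K hχ y)
  refine hb.trans (Nat.card_congr (Equiv.ofBijective (fun w : W₂ =>
    (⟨ConjClasses.mk (⟨w, D.le w.2⟩ : K), ?_⟩ :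
      {C : ConjClasses K // ∀ g, ConjClasses.mk g = C → IsConj (conjHom K y g) g})) ⟨?_, ?_⟩)).symm
  · intro g hg
    obtain ⟨c, hc⟩ := isConj_iff.mp (ConjClasses.mk_eq_mk_iff_isConj.mp hg)
    have hyw : conjHom K y ⟨w, D.le w.2⟩ = ⟨w, D.le w.2⟩ := Subtype.ext (by
      show y * (w : L) * y⁻¹ = w
      rw [D.split.comm y hy w w.2, mul_inv_cancel_right])
    refine (ConjClasses.mk_eq_mk_iff_isConj.mp ?_).trans (IsConj.symm (ConjClasses.mk_eq_mk_iff_isConj.mp hg))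
    rw [ConjClasses.mk_eq_mk_iff_isConj, isConj_iff]
    refine ⟨conjHom K y c, ?_⟩
    rw [← map_inv, ← map_mul, ← map_mul, hc, hyw]
  · intro w w' hww
    have hc := ConjClasses.mk_eq_mk_iff_isConj.mp (congrArg Subtype.val hww)
    obtain ⟨k, hk⟩ := isConj_iff.mp hc
    have hk' : (k : L) * w * (k : L)⁻¹ = w' := congrArg Subtype.val hk
    have hyw : ∀ u : W₂, y * (u : L) = u * y := fun u => D.split.comm y hy u u.2
    -- the coset of `k` modulo the centraliser of `w` is stable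
    set H := K ⊓ Subgroup.centralizer ({(w : L)} : Set L) with hH
    have hyN : y ∈ Subgroup.normalizer (H : Set L) := by
      rw [Subgroup.mem_normalizer_iff]
      intro n
      have hcy : ∀ m : L, m * w = w * m ↔ y * m * y⁻¹ * w = w * (y * m * y⁻¹) := by
        intro m
        have e1 : y * m * y⁻¹ * w = y * (m * w) * y⁻¹ := by
          rw [mul_assoc (y * m), show y⁻¹ * (w : L) = w * y⁻¹ by
            rw [inv_mul_eq_iff_eq_mul, ← mul_assoc, hyw w, mul_inv_cancel_right]]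
          group
        have e2 : (w : L) * (y * m * y⁻¹) = y * (w * m) * y⁻¹ := by
          rw [← mul_assoc, ← mul_assoc, ← hyw w]; group
        rw [e1, e2]
        exact ⟨fun h => by rw [h], fun h => mul_left_cancel (mul_right_cancel h)⟩
      simp only [hH, Subgroup.mem_inf, Subgroup.mem_centralizer_singleton_iff]
      refine and_congr ⟨fun h => hKn.conj_mem n h y, fun h => ?_⟩ (hcy n)
      have := hKn.conj_mem _ h y⁻¹
      simpa [mul_assoc] using this
    have hh : (k : L)⁻¹ * (y * k * y⁻¹) ∈ H := by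
      refine ⟨K.mul_mem (K.inv_mem k.2) (hKn.conj_mem _ k.2 y),
        Subgroup.mem_centralizer_singleton_iff.mpr ?_⟩
      have e : y * (k : L) * y⁻¹ * w * (y * (k : L) * y⁻¹)⁻¹ = w' := by
        calc y * (k : L) * y⁻¹ * w * (y * (k : L) * y⁻¹)⁻¹
            = y * ((k : L) * (y⁻¹ * w * y) * (k : L)⁻¹) * y⁻¹ := by group
          _ = y * ((k : L) * w * (k : L)⁻¹) * y⁻¹ := by rw [mul_assoc y⁻¹, ← hyw w, inv_mul_cancel_left]
          _ = w' := by rw [hk', hyw w', mul_inv_cancel_right]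
      have e' := e.trans hk'.symm
      have := congrArg (fun z => (k : L)⁻¹ * z * (y * (k : L) * y⁻¹)) e'
      simp only [mul_assoc, inv_mul_cancel, inv_mul_cancel_left, mul_one] at this ⊢
      exact this
    have hcop : Nat.Coprime (orderOf y) (Nat.card H) :=
      (D.coprime.coprime_dvd_left (Subgroup.orderOf_dvd_natCard W₁ hy)).coprime_dvd_right
        (Subgroup.card_dvd_of_le inf_le_left)
    obtain ⟨z, hz, c, hc', hcy, hzc⟩ := exists_coprime_conj H hyN hcop hh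
    have hc1 : c = 1 := by
      have e : z * ((k : L)⁻¹ * (y * k * y⁻¹) * y) * z⁻¹ = (z * (k : L)⁻¹) * y * (z * (k : L)⁻¹)⁻¹ := by
        group
      have hpow : (c * y) ^ orderOf y = 1 := by
        rw [← hzc, e, conj_pow, pow_orderOf_eq_one]; group
      rw [Commute.mul_pow hcy, pow_orderOf_eq_one, mul_one] at hpow
      exact CharExtend.eq_one_of_pow_coprime hpow
        (orderOf_dvd_iff_pow_eq_one.mp (Subgroup.orderOf_dvd_natCard H hc')) hcop
    have hm : (k : L) * z⁻¹ ∈ W₂ := by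
      rw [← D.cent y hy hy1]
      refine ⟨K.mul_mem k.2 (K.inv_mem hz.1), Subgroup.mem_centralizer_singleton_iff.mpr ?_⟩
      rw [hc1, one_mul] at hzc
      have := congrArg (fun q => (k : L) * z⁻¹ * q) hzc
      simp only [mul_assoc, inv_mul_cancel_left, mul_inv_cancel_left, inv_mul_cancel, mul_one] at this ⊢
      exact this.symm
    haveI := D.comm2
    have hcm : (k : L) * z⁻¹ * w = w * ((k : L) * z⁻¹) :=
      congrArg Subtype.val (mul_comm' (⟨_, hm⟩ : W₂) w)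
    have hzw : z⁻¹ * w = w * z⁻¹ := by
      have := Subgroup.mem_centralizer_singleton_iff.mp hz.2
      rw [inv_mul_eq_iff_eq_mul, ← mul_assoc, this, mul_inv_cancel_right]
    refine Subtype.ext ?_
    rw [← hk', eq_mul_inv_iff_mul_eq]
    have : (k : L) * w * z⁻¹ = (w : L) * k * z⁻¹ := by
      rw [mul_assoc, ← hzw, ← mul_assoc, hcm, mul_assoc]
    exact (mul_right_cancel this).symm
  · rintro ⟨C, hC⟩
    obtain ⟨c, rfl⟩ := ConjClasses.mk_surjective C
    obtain ⟨a, ha⟩ := isConj_iff.mp (IsConj.symm (hC c rfl))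
    obtain ⟨k, hk, hkc⟩ := exists_fixed_of_class K (x := y)
      (by rw [Subgroup.normalizer_eq_top]; trivial)
      (D.coprime.coprime_dvd_left (Subgroup.orderOf_dvd_natCard W₁ hy)) c.2 a.2
      (congrArg Subtype.val ha)
    have hw : k * (c : L) * k⁻¹ ∈ W₂ := by
      rw [← D.cent y hy hy1]
      exact ⟨hKn.conj_mem _ c.2 k, Subgroup.mem_centralizer_singleton_iff.mpr hkc.symm⟩
    refine ⟨⟨_, hw⟩, Subtype.ext (ConjClasses.mk_eq_mk_iff_isConj.mpr (IsConj.symm ?_))⟩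
    exact isConj_iff.mpr ⟨⟨k, hk⟩, Subtype.ext rfl⟩

theorem fixed_iff {θ : K → ℂ} (hθ : Cfsg.IsIrrCharacter K θ) {y : L} (hy : y ∈ W₁) (hy1 : y ≠ 1)
    (h : conjChar K y θ = θ) : ∀ g : L, conjChar K g θ = θ := by
  classical
  obtain ⟨⟨x, hx⟩, hgen⟩ := D.cyc1.exists_generator
  have hx1 : x ≠ 1 := fun e => by
    obtain ⟨j, hj⟩ := Subgroup.mem_zpowers_iff.mp (hgen ⟨y, hy⟩)
    have hj' := congrArg Subtype.val hj
    simp [e] at hj'
    exact hy1 hj'.symm
  have hall : ∀ φ : K → ℂ, Cfsg.IsIrrCharacter K φ → conjChar K x φ = φ →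
      ∀ g : L, conjChar K g φ = φ := by
    intro φ hφ hfix g
    have hKI : K ≤ inertia K φ :=
      le_inertia K (IsCharacter.isClassFunction (IsIrrCharacter.isCharacter hφ))
    have hWI : W₁ ≤ inertia K φ := fun w hw => by
      obtain ⟨j, hj⟩ := Subgroup.mem_zpowers_iff.mp (hgen ⟨w, hw⟩)
      have hj' : x ^ j = w := by simpa using congrArg Subtype.val hj
      exact hj' ▸ (inertia K φ).zpow_mem ((mem_inertia K).mpr hfix) j
    exact (mem_inertia K).mp ((sup_le hKI hWI) (by rw [D.sup]; trivial))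
  let ι : {φ : Cfsg.IrrCharacter K // conjChar K x (φ : K → ℂ) = φ} →
      {φ : Cfsg.IrrCharacter K // conjChar K y (φ : K → ℂ) = φ} :=
    fun φ => ⟨φ.1, hall _ φ.1.2 φ.2 y⟩
  have hinj : Function.Injective ι := fun a b e => Subtype.ext (congrArg (fun q => q.1) e)
  have hb : Function.Bijective ι := (Nat.bijective_iff_injective_and_card ι).mpr
    ⟨hinj, by rw [D.card_fixed hx hx1, D.card_fixed hy hy1]⟩
  obtain ⟨φ, hφ⟩ := hb.2 ⟨⟨θ, hθ⟩, h⟩
  have e : (φ.1 : K → ℂ) = θ := congrArg (fun q => (q.1 : K → ℂ)) hφ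
  exact e ▸ hall _ φ.1.2 φ.2

theorem invariant_of_W1 {θ : K → ℂ} (hθ : Cfsg.IsClassFunction K θ)
    (h : ∀ x ∈ W₁, conjChar K x θ = θ) (g : L) : conjChar K g θ = θ :=
  (mem_inertia K).mp ((sup_le (le_inertia K hθ) (fun x hx => (mem_inertia K).mpr (h x hx)))
    (by rw [D.sup]; trivial))

theorem card_invariant :
    Nat.card {θ : Cfsg.IrrCharacter K // ∀ x ∈ W₁, conjChar K x (θ : K → ℂ) = θ} = Nat.card W₂ := by
  obtain ⟨a, ha, ha1⟩ := (Subgroup.bot_or_exists_ne_one W₁).resolve_left D.ne1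
  rw [← D.card_fixed ha ha1]
  exact Nat.card_congr (Equiv.subtypeEquivRight fun θ =>
    ⟨fun h => h a ha, fun h x _ => D.fixed_iff θ.2 ha ha1 h x⟩)

theorem isIrr_ind {θ : K → ℂ} (hθ : Cfsg.IsIrrCharacter K θ) (h : ¬ ∀ g : L, conjChar K g θ = θ) :
    Cfsg.IsIrrCharacter L (Cfsg.indFun K θ) := by
  classical
  refine IsCharacter.isIrr_of_norm_one (isCharacter_indFun K (IsIrrCharacter.isCharacter hθ)) ?_
  have e : Nat.card {g : L // conjChar K g θ = θ} = Nat.card K := by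
    refine Nat.card_congr (Equiv.subtypeEquivRight fun g => ⟨fun hg => ?_, fun hg => ?_⟩)
    · by_contra hgK
      have hI : g ∈ inertia K θ := (mem_inertia K).mpr hg
      have hKI : K ≤ inertia K θ :=
        le_inertia K (IsCharacter.isClassFunction (IsIrrCharacter.isCharacter hθ))
      have hpr : (D.pr g : L) ∈ inertia K θ := by
        have := (inertia K θ).mul_mem ((inertia K θ).inv_mem (hKI (D.decomp' g))) hI
        simpa [mul_assoc] using this
      exact h (D.fixed_iff hθ (D.pr g).2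
        (fun e => hgK ((D.pr_eq_one_iff g).mp (Subtype.ext e))) ((mem_inertia K).mp hpr))
    · exact conjChar_of_mem K (IsCharacter.isClassFunction (IsIrrCharacter.isCharacter hθ)) hg
  rw [classInner_indFun_normal K hθ hθ, e, inv_mul_cancel₀ (Nat.cast_ne_zero.mpr Nat.card_pos.ne')]

theorem commutator_mem (a b : L) : a * b * a⁻¹ * b⁻¹ ∈ K := by
  haveI := D.comm1
  rw [← D.pr_eq_one_iff, map_mul, map_mul, map_mul, map_inv, map_inv, mul_comm' (D.pr a),
    mul_inv_cancel_right, mul_inv_cancel]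

theorem exists_extension {θ : K → ℂ} (hθ : Cfsg.IsIrrCharacter K θ)
    (hinv : ∀ g : L, conjChar K g θ = θ) :
    ∃ η : L → ℂ, Cfsg.IsIrrCharacter L η ∧ ∀ k : K, η k = θ k := by
  obtain ⟨d, σ, hσ, rfl, -, hi⟩ := CharExtend.exists_setup hθ (fun g n => congrFun (hinv g) n)
  haveI := hσ
  haveI := D.cyc1
  have hcyc : IsCyclic (L ⧸ K) :=
    isCyclic_of_surjective ((QuotientGroup.mk' K).comp W₁.subtype) D.mk_bijective.surjective
  obtain ⟨ρ, hρ⟩ := CharExtend.exists_extension_of_cyclic σ hi hcyc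
  exact ⟨ρ.character, CharExtend.exists_char_of_rep hρ⟩

/-- Irreducible characters either stay irreducible on `K` or vanish off `K`. -/
theorem restrict_cases {η : L → ℂ} (hη : Cfsg.IsIrrCharacter L η) :
    Cfsg.IsIrrCharacter K (fun k : K => η k) ∨ ∀ g, g ∉ K → η g = 0 := by
  classical
  haveI : Fintype K := Fintype.ofFinite K
  obtain ⟨⟨θ, hθ⟩, hcon⟩ := exists_restrict_constituent hη K
  by_cases hinv : ∀ g : L, conjChar K g θ = θ
  · left
    obtain ⟨η₀, hη₀, hres⟩ := D.exists_extension hθ hinv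
    have hfun : (fun k : K => η₀ k) = θ := funext hres
    obtain ⟨-, -, h3⟩ := gallagher_one K (IsIrrCharacter.isCharacter hη₀) (hfun ▸ hθ)
    obtain ⟨β, hβ, hprod⟩ := h3 η hη (hfun.symm ▸ hcon)
    have hβ1 : (β : L → ℂ) 1 = 1 :=
      degree_one_of_commutators β.2 fun a b => hβ ⟨_, D.commutator_mem a b⟩
    have e : (fun k : K => η k) = θ := funext fun k => by
      rw [← hprod, Pi.mul_apply, hβ, hβ1, one_mul, hres]
    rw [e]; exact hθ
  · right
    intro g hg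
    have hind := D.isIrr_ind hθ hinv
    have hne : Cfsg.classInner η (Cfsg.indFun K θ) ≠ 0 := by
      rw [classInner_indFun_right K θ (IsCharacter.isClassFunction (IsIrrCharacter.isCharacter hη))]
      exact hcon
    have : η = Cfsg.indFun K θ := by
      by_contra h
      exact hne (classInner_irr_of_ne hη hind h)
    rw [this, indFun_eq_zero_of_not_mem K θ hg]

section shape

variable [Fintype ↥(W₁ ⊔ W₂)]

/-- On `W` outside `W₂` a character irreducible on `K` is a signed linear character. -/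
theorem shape (h3 : 3 ≤ Nat.card W₁) {η : L → ℂ} (hη : Cfsg.IsIrrCharacter L η)
    (hgood : Cfsg.IsIrrCharacter K (fun k : K => η k)) :
    ∃ (δ : ℤ) (ω : ↥(W₁ ⊔ W₂) →* ℂˣ), δ * δ = 1 ∧
      ∀ w : ↥(W₁ ⊔ W₂), (w : L) ∉ W₂ → η w = (δ : ℂ) * (ω w : ℂ) := by
  classical
  haveI := D.comm1
  haveI := D.comm2
  haveI := finite_dual W₁
  haveI := finite_dual W₂
  haveI : Fintype (W₁ →* ℂˣ) := Fintype.ofFinite _
  haveI : Fintype (W₂ →* ℂˣ) := Fintype.ofFinite _
  haveI : Fintype K := Fintype.ofFinite K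
  haveI : Fintype W₂ := Fintype.ofFinite W₂
  have hηcl := IsCharacter.isClassFunction (IsIrrCharacter.isCharacter hη)
  set F : ↥(W₁ ⊔ W₂) → ℂ := fun w => η w
  have hF : Cfsg.IsCharacter ↥(W₁ ⊔ W₂) F :=
    IsCharacter.restrict (IsIrrCharacter.isCharacter hη) _
  obtain ⟨m, hm⟩ := IsCharacter.exists_decomp hF
  let e : (W₁ →* ℂˣ) × (W₂ →* ℂˣ) → Cfsg.IrrCharacter ↥(W₁ ⊔ W₂) := fun p =>
    ⟨_, isIrrCharacter_linear (dualEquiv D.split p)⟩
  have he : Function.Bijective e := by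
    refine ⟨fun p q h => (dualEquiv D.split).injective (MonoidHom.ext fun w => Units.ext
      (congrFun (congrArg Subtype.val h) w)), fun χ => ?_⟩
    obtain ⟨f, hf⟩ := exists_hom_of_degree_one (IsIrrCharacter.isCharacter χ.2)
      (degree_one_of_comm D.comm_W χ.2)
    refine ⟨(dualEquiv D.split).symm f, Subtype.ext ?_⟩
    simp only [e, Equiv.apply_symm_apply, hf]
  let a : (W₁ →* ℂˣ) → (W₂ →* ℂˣ) → ℤ := fun f g => (m (e (f, g)) : ℤ)
  have hFw : ∀ w, F w = ∑ g : W₂ →* ℂˣ, (g (proj2 D.split w) : ℂ) *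
      ∑ f : W₁ →* ℂˣ, (a f g : ℂ) * (f (proj1 D.split w) : ℂ) := by
    intro w
    rw [hm, Finset.sum_apply, ← Fintype.sum_bijective e he
      (fun p => (m (e p) : ℂ) * (e p : ↥(W₁ ⊔ W₂) → ℂ) w) _ (fun p => by simp),
      Fintype.sum_prod_type, Finset.sum_comm]
    refine Finset.sum_congr rfl fun g _ => ?_
    rw [Finset.mul_sum]
    refine Finset.sum_congr rfl fun f _ => ?_
    show (m (e (f, g)) : ℂ) * ((pull1 D.split f w * pull2 D.split g w : ℂˣ) : ℂ) = _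
    simp only [a, pull1, pull2, MonoidHom.comp_apply, Units.val_mul, Int.cast_natCast]
    ring
  have hall : ∑ w, F w * conj (F w) =
      (Nat.card W₁ : ℂ) * (Nat.card W₂ : ℂ) * ∑ g, ∑ f, ((a f g * a f g : ℤ) : ℂ) := by
    have h := classInner_combination₂ (G := ↥(W₁ ⊔ W₂)) (fun χ => (m χ : ℂ)) (fun χ => (m χ : ℂ))
    rw [← hm, Cfsg.classInner, inv_mul_eq_iff_eq_mul₀ (Nat.cast_ne_zero.mpr Nat.card_pos.ne'),
      ← Fintype.sum_bijective e he (fun p => (m (e p) : ℂ) * conj (m (e p) : ℂ)) _ (fun p => rfl),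
      Fintype.sum_prod_type, Finset.sum_comm,
      ← Nat.card_congr (prodIso D.split).toEquiv, Nat.card_prod, Nat.cast_mul] at h
    rw [h]
    simp [a]
  set A : (W₂ →* ℂˣ) → ℤ := fun g => ∑ f, a f g
  have hW2 : ∑ w ∈ Finset.univ.filter (fun w : ↥(W₁ ⊔ W₂) => (w : L) ∈ W₂), F w * conj (F w) =
      (Nat.card W₂ : ℂ) * ∑ g, ((A g * A g : ℤ) : ℂ) := by
    have e1 : ∀ b : W₂, F (inc2 W₁ W₂ b) = ∑ g : W₂ →* ℂˣ, (A g : ℂ) * (g b : ℂ) := fun b => by
      rw [hFw]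
      refine Finset.sum_congr rfl fun g _ => ?_
      simp [A, Finset.sum_mul, mul_comm]
    rw [show Finset.univ.filter (fun w : ↥(W₁ ⊔ W₂) => (w : L) ∈ W₂) =
      (Finset.univ : Finset W₂).image (inc2 W₁ W₂) by
        ext w
        simp only [Finset.mem_filter, Finset.mem_univ, true_and, Finset.mem_image]
        exact ⟨fun h => ⟨⟨w, h⟩, rfl⟩, fun ⟨b, hb⟩ => hb ▸ b.2⟩,
      Finset.sum_image (g := (inc2 W₁ W₂ : W₂ → ↥(W₁ ⊔ W₂)))
        (fun a _ b _ h => Subgroup.inclusion_injective le_sup_right h)]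
    simp only [e1, map_sum, map_mul, map_intCast, Finset.sum_mul_sum]
    rw [Finset.sum_comm, Finset.mul_sum]
    refine Finset.sum_congr rfl fun g _ => ?_
    rw [Finset.sum_comm]
    have e2 : ∀ g' : W₂ →* ℂˣ, ∑ b : W₂, (A g : ℂ) * (g b : ℂ) * ((A g' : ℂ) * conj (g' b : ℂ)) =
        if g = g' then (Nat.card W₂ : ℂ) * ((A g * A g : ℤ) : ℂ) else 0 := by
      intro g'
      have h := classInner_lin (H := W₂) g g'
      rw [Cfsg.classInner, inv_mul_eq_iff_eq_mul₀ (Nat.cast_ne_zero.mpr Nat.card_pos.ne')] at h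
      rw [Finset.sum_congr rfl fun b _ => show (A g : ℂ) * (g b : ℂ) * ((A g' : ℂ) * conj (g' b : ℂ)) =
        (A g : ℂ) * (A g' : ℂ) * ((g b : ℂ) * conj (g' b : ℂ)) by ring, ← Finset.mul_sum, h]
      split_ifs with hg
      · subst hg; push_cast; ring
      · simp
    rw [Finset.sum_congr rfl fun g' _ => e2 g', Finset.sum_ite_eq, if_pos (Finset.mem_univ _)]
  have hV := D.sum_off (f := fun g => η g * conj (η g))
    (fun g h => by simp only [hηcl g h])
  have hsplit : ∀ g : L, (if g ∈ K then 0 else η g * conj (η g)) =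
      η g * conj (η g) - (if g ∈ K then η g * conj (η g) else 0) := fun g => by
    split_ifs <;> simp
  have hsplit' : ∀ w : ↥(W₁ ⊔ W₂), (if (w : L) ∈ W₂ then 0 else η w * conj (η w)) =
      η w * conj (η w) - (if (w : L) ∈ W₂ then η w * conj (η w) else 0) := fun w => by
    split_ifs <;> simp
  have hL : ∑ g, η g * conj (η g) = (Nat.card L : ℂ) := by
    have h := classInner_self_irr hη
    rwa [Cfsg.classInner, inv_mul_eq_iff_eq_mul₀ (Nat.cast_ne_zero.mpr Nat.card_pos.ne'),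
      mul_one] at h
  have hK : ∑ g, (if g ∈ K then η g * conj (η g) else 0) = (Nat.card K : ℂ) := by
    have h := classInner_self_irr hgood
    rw [Cfsg.classInner, inv_mul_eq_iff_eq_mul₀ (Nat.cast_ne_zero.mpr Nat.card_pos.ne'),
      mul_one] at h
    rw [← Finset.sum_filter, Finset.sum_subtype (p := fun g => g ∈ K) _ (by simp)]
    exact h
  simp only [hsplit, hsplit', Finset.sum_sub_distrib] at hV
  rw [hL, hK, show ∑ w : ↥(W₁ ⊔ W₂), η w * conj (η w) = ∑ w, F w * conj (F w) from rfl, hall,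
    ← Finset.sum_filter, show ∑ w ∈ Finset.univ.filter (fun w : ↥(W₁ ⊔ W₂) => (w : L) ∈ W₂),
      η w * conj (η w) = _ from hW2, ← Nat.card_congr (prodIso D.split).toEquiv, Nat.card_prod,
    ← Subgroup.card_mul_index K, D.index_eq, Nat.cast_mul, Nat.cast_mul] at hV
  have hkey : ((∑ g, ((Nat.card W₁ : ℤ) * (∑ f, a f g * a f g) - A g * A g) : ℤ) : ℂ) =
      (((Nat.card W₁ : ℤ) - 1 : ℤ) : ℂ) := by
    have n1 : (Nat.card W₁ : ℂ) ≠ 0 := Nat.cast_ne_zero.mpr Nat.card_pos.ne'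
    have n2 : (Nat.card W₂ : ℂ) ≠ 0 := Nat.cast_ne_zero.mpr Nat.card_pos.ne'
    have nK : (Nat.card K : ℂ) ≠ 0 := Nat.cast_ne_zero.mpr Nat.card_pos.ne'
    field_simp at hV
    push_cast at hV ⊢
    rw [Finset.sum_sub_distrib, ← Finset.mul_sum]
    exact hV.symm
  have hkey' := (Int.cast_inj (α := ℂ)).mp hkey
  have hcA : Fintype.card (W₁ →* ℂˣ) = Nat.card W₁ := by
    rw [← Nat.card_eq_fintype_card, card_hom]
  set Dg : (W₂ →* ℂˣ) → ℤ := fun g => (Nat.card W₁ : ℤ) * (∑ f, a f g * a f g) - A g * A g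
  have hcase : ∀ g, ((∀ f f', a f g = a f' g) ∧ Dg g = 0) ∨
      ((Nat.card W₁ : ℤ) - 1 ≤ Dg g ∧ ((Nat.card W₁ : ℤ) - 1 = Dg g →
        ∃ (f₀ : W₁ →* ℂˣ) (c δ : ℤ), δ * δ = 1 ∧ (∀ f, f ≠ f₀ → a f g = c) ∧ a f₀ g = c + δ)) := by
    intro g
    rcases one_off (hcA.symm ▸ h3) (fun f => a f g) with h | ⟨h1, h2⟩
    · refine Or.inl ⟨h, ?_⟩
      simp only [Dg, A, Finset.sum_congr rfl fun f _ => h f 1, Finset.sum_const,
        Finset.card_univ, hcA, nsmul_eq_mul, Finset.sum_congr rfl fun f _ =>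
          show a f g * a f g = a 1 g * a 1 g by rw [h f 1]]
      ring
    · rw [hcA] at h1 h2
      exact Or.inr ⟨h1, h2⟩
  have hDnn : ∀ g, 0 ≤ Dg g := fun g => by
    rcases hcase g with ⟨-, h⟩ | ⟨h, -⟩
    · exact h.ge
    · omega
  obtain ⟨g₀, hg₀⟩ : ∃ g, Dg g ≠ 0 := by
    by_contra h
    push Not at h
    rw [Finset.sum_eq_zero fun g _ => h g] at hkey'
    omega
  obtain ⟨h1, h2⟩ := (hcase g₀).resolve_left fun h => hg₀ h.2
  have hsum := Finset.add_sum_erase Finset.univ Dg (Finset.mem_univ g₀)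
  have hrest : 0 ≤ ∑ g ∈ Finset.univ.erase g₀, Dg g := Finset.sum_nonneg fun g _ => hDnn g
  rw [show ∑ g, Dg g = (Nat.card W₁ : ℤ) - 1 from hkey'] at hsum
  have hz : ∑ g ∈ Finset.univ.erase g₀, Dg g = 0 := by omega
  obtain ⟨f₀, c, δ, hδ, hc, hc₀⟩ := h2 (by omega)
  refine ⟨δ, pull1 D.split f₀ * pull2 D.split g₀, hδ, fun w hw => ?_⟩
  have hx : proj1 D.split w ≠ 1 := fun h => hw ((proj1_eq_one_iff D.split w).mp h)
  rw [show η w = F w from rfl, hFw, Finset.sum_eq_single g₀ (fun g _ hg => ?_) (by simp)]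
  · have : ∑ f : W₁ →* ℂˣ, (a f g₀ : ℂ) * (f (proj1 D.split w) : ℂ) =
        ∑ f : W₁ →* ℂˣ, ((c : ℂ) * (f (proj1 D.split w) : ℂ) +
          if f = f₀ then (δ : ℂ) * (f₀ (proj1 D.split w) : ℂ) else 0) := by
      refine Finset.sum_congr rfl fun f _ => ?_
      by_cases hf : f = f₀
      · subst hf; rw [if_pos rfl, hc₀]; push_cast; ring
      · rw [if_neg hf, hc f hf, add_zero]
    rw [this, Finset.sum_add_distrib, ← Finset.mul_sum, sum_hom_eq_zero hx, mul_zero, zero_add,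
      Finset.sum_ite_eq', if_pos (Finset.mem_univ _)]
    simp only [MonoidHom.mul_apply, pull1, pull2, MonoidHom.comp_apply, Units.val_mul]
    ring
  · have hd : Dg g = 0 := (Finset.sum_eq_zero_iff_of_nonneg fun x _ => hDnn x).mp hz g
      (Finset.mem_erase.mpr ⟨hg, Finset.mem_univ g⟩)
    have hconst := ((hcase g).resolve_right fun h => by omega).1
    rw [Finset.sum_congr rfl fun f _ => show (a f g : ℂ) * (f (proj1 D.split w) : ℂ) =
      (a 1 g : ℂ) * (f (proj1 D.split w) : ℂ) by rw [hconst f 1], ← Finset.mul_sum,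
      sum_hom_eq_zero hx, mul_zero, mul_zero]

theorem shape_unique (hodd : Odd (Nat.card ↥(W₁ ⊔ W₂))) {δ δ' : ℂ} (hδ : δ ≠ 0)
    {ω ω' : ↥(W₁ ⊔ W₂) →* ℂˣ}
    (h : ∀ w : ↥(W₁ ⊔ W₂), (w : L) ∉ W₂ → δ * (ω w : ℂ) = δ' * (ω' w : ℂ)) :
    δ = δ' ∧ ω = ω' := by
  obtain ⟨m, hm⟩ := hodd.of_dvd_nat (Subgroup.card_dvd_of_le (le_sup_left : W₁ ≤ W₁ ⊔ W₂))
  have hsq : ∀ x : W₁, x ≠ 1 → x * x ≠ 1 := by
    intro x hx h'
    have h2 := pow_card_eq_one' (x := x)
    rw [hm, pow_succ, pow_mul, sq, h', one_pow, one_mul] at h2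
    exact hx h2
  have hmem : ∀ (x : W₁), x ≠ 1 → ∀ b : W₂,
      ((inc1 W₁ W₂ x * inc2 W₁ W₂ b : ↥(W₁ ⊔ W₂)) : L) ∉ W₂ := by
    intro x hx b hb
    have := (proj1_eq_one_iff D.split _).mpr hb
    rw [map_mul, proj1_inc1, proj1_inc2, mul_one] at this
    exact hx this
  obtain ⟨a, ha, ha1⟩ := (Subgroup.bot_or_exists_ne_one W₁).resolve_left D.ne1
  have ha' : (⟨a, ha⟩ : W₁) ≠ 1 := fun e => ha1 (congrArg Subtype.val e)
  have key : ∀ (x : W₁), x ≠ 1 → ∀ b : W₂,
      δ * ((ω (inc1 W₁ W₂ x) : ℂ) * ω (inc2 W₁ W₂ b)) =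
        δ' * ((ω' (inc1 W₁ W₂ x) : ℂ) * ω' (inc2 W₁ W₂ b)) := by
    intro x hx b
    have := h _ (hmem x hx b)
    rwa [map_mul, map_mul, Units.val_mul, Units.val_mul] at this
  have key1 : ∀ (x : W₁), x ≠ 1 → δ * (ω (inc1 W₁ W₂ x) : ℂ) = δ' * (ω' (inc1 W₁ W₂ x) : ℂ) := by
    intro x hx
    have := key x hx 1
    simpa using this
  have hB : ∀ b : W₂, (ω (inc2 W₁ W₂ b) : ℂ) = ω' (inc2 W₁ W₂ b) := by
    intro b
    have e1 := key _ ha' b
    rw [← mul_assoc, ← mul_assoc, ← key1 _ ha'] at e1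
    exact mul_left_cancel₀ (mul_ne_zero hδ (Units.ne_zero _)) e1
  have hA : ∀ x : W₁, x ≠ 1 → (ω (inc1 W₁ W₂ x) : ℂ) = ω' (inc1 W₁ W₂ x) := by
    intro x hx
    have e1 := key1 x hx
    have e2 := key1 (x * x) (hsq x hx)
    rw [map_mul, map_mul, map_mul, Units.val_mul, Units.val_mul] at e2
    rw [← mul_assoc, ← mul_assoc, ← e1] at e2
    exact mul_left_cancel₀ (mul_ne_zero hδ (Units.ne_zero _)) e2
  have hω : ω = ω' := by
    ext w
    rw [← decomp D.split w, map_mul, map_mul, Units.val_mul, Units.val_mul, hB]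
    congr 1
    by_cases hx : proj1 D.split w = 1
    · simp [hx]
    · exact hA _ hx
  subst hω
  exact ⟨mul_right_cancel₀ (Units.ne_zero _) (key1 _ ha'), rfl⟩

theorem card_ne_one (hodd : Odd (Nat.card ↥(W₁ ⊔ W₂))) : 3 ≤ Nat.card W₁ := by
  have h1 : Odd (Nat.card W₁) := hodd.of_dvd_nat (Subgroup.card_dvd_of_le le_sup_left)
  have g1 : 1 < Nat.card W₁ := (Subgroup.one_lt_card_iff_ne_bot W₁).mpr D.ne1
  obtain ⟨m, hm⟩ := h1
  omega

theorem ext_V {η : L → ℂ} {c : ℂ} {ω : ↥(W₁ ⊔ W₂) →* ℂˣ}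
    (h : ∀ w : ↥(W₁ ⊔ W₂), (w : L) ∉ W₂ → η w = c * (ω w : ℂ)) (f : W₁ →* ℂˣ)
    (w : ↥(W₁ ⊔ W₂)) (hw : (w : L) ∉ W₂) :
    (f (D.pr (w : L)) : ℂ) * η w = c * ((pull1 D.split f * ω) w : ℂ) := by
  rw [h w hw, MonoidHom.mul_apply, Units.val_mul,
    show pull1 D.split f w = f (proj1 D.split w) from rfl, D.proj1_eq]
  ring

/-- The exceptional characters. -/
theorem exists_mu (hodd : Odd (Nat.card ↥(W₁ ⊔ W₂))) :
    ∃ (μ : (↥(W₁ ⊔ W₂) →* ℂˣ) → (L → ℂ)) (δ : (↥(W₁ ⊔ W₂) →* ℂˣ) → ℂ),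
      Function.Injective μ ∧ (∀ ω, Cfsg.IsIrrCharacter L (μ ω)) ∧ (∀ ω, δ ω = 1 ∨ δ ω = -1) ∧
      (∀ ω, Cfsg.IsIrrCharacter K (fun k : K => μ ω k)) ∧
      (∀ ω, ∀ w : ↥(W₁ ⊔ W₂), (w : L) ∉ W₂ → μ ω w = δ ω * (ω w : ℂ)) ∧
      (∀ (ω : ↥(W₁ ⊔ W₂) →* ℂˣ) (f : W₁ →* ℂˣ), δ (pull1 D.split f * ω) = δ ω ∧
        μ (pull1 D.split f * ω) = fun g => (f (D.pr g) : ℂ) * μ ω g) ∧
      (∀ η : L → ℂ, Cfsg.IsIrrCharacter L η → Cfsg.IsIrrCharacter K (fun k : K => η k) →
        ∃ ω, μ ω = η) ∧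
      (∀ η : L → ℂ, Cfsg.IsIrrCharacter L η → (∀ ω, η ≠ μ ω) →
        ∀ w : ↥(W₁ ⊔ W₂), (w : L) ∉ W₂ → η w = 0) := by
  classical
  haveI := D.comm1
  haveI := D.comm2
  haveI := finite_dual ↥(W₁ ⊔ W₂)
  have h3 := D.card_ne_one hodd
  let Good := {η : Cfsg.IrrCharacter L // Cfsg.IsIrrCharacter K (fun k : K => (η : L → ℂ) k)}
  choose d wt hd hw using fun η : Good => D.shape h3 η.1.2 η.2
  have hd0 : ∀ η, (d η : ℂ) ≠ 0 := fun η => by
    have := hd η
    exact Int.cast_ne_zero.mpr fun e => by simp [e] at this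
  have hvanish : ∀ η : Cfsg.IrrCharacter L, ¬ Cfsg.IsIrrCharacter K (fun k : K => (η : L → ℂ) k) →
      ∀ w : ↥(W₁ ⊔ W₂), (w : L) ∉ W₂ → (η : L → ℂ) w = 0 := fun η hη w hw' =>
    ((D.restrict_cases η.2).resolve_left hη) w fun h => hw' ((D.mem_W2_iff w).mpr h)
  have hinj : Function.Injective wt := by
    intro η η' he
    by_contra hne
    have horth : Cfsg.classInner (η.1 : L → ℂ) (η'.1 : L → ℂ) = 0 :=
      classInner_irr_of_ne η.1.2 η'.1.2 (fun e => hne (Subtype.ext (Subtype.ext e)))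
    have hcl := IsCharacter.isClassFunction (IsIrrCharacter.isCharacter η.1.2)
    have hcl' := IsCharacter.isClassFunction (IsIrrCharacter.isCharacter η'.1.2)
    have hV := D.sum_off (f := fun g => (η.1 : L → ℂ) g * conj ((η'.1 : L → ℂ) g))
      (fun g h => by simp only [hcl g h, hcl' g h])
    have e1 : ∀ w : ↥(W₁ ⊔ W₂), (if (w : L) ∈ W₂ then 0 else
        (η.1 : L → ℂ) w * conj ((η'.1 : L → ℂ) w)) =
        if (w : L) ∈ W₂ then 0 else (d η : ℂ) * (d η' : ℂ) := by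
      intro w
      split_ifs with hw'
      · rfl
      · have hn : (wt η' w : ℂ) * conj (wt η' w : ℂ) = 1 := by
          rw [Complex.mul_conj', norm_eq_one_of_pow (Nat.card_pos (α := ↥(W₁ ⊔ W₂))).ne']
          · norm_num
          · rw [← Units.val_pow_eq_pow_val, ← map_pow, pow_card_eq_one', map_one, Units.val_one]
        rw [hw η w hw', hw η' w hw', he, map_mul, map_intCast]
        linear_combination (d η : ℂ) * (d η' : ℂ) * hn
    haveI : Fintype K := Fintype.ofFinite K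
    haveI : Fintype W₂ := Fintype.ofFinite W₂
    have hsplit : ∀ g : L, (if g ∈ K then 0 else (η.1 : L → ℂ) g * conj ((η'.1 : L → ℂ) g)) =
        (η.1 : L → ℂ) g * conj ((η'.1 : L → ℂ) g) -
          (if g ∈ K then (η.1 : L → ℂ) g * conj ((η'.1 : L → ℂ) g) else 0) := fun g => by
      split_ifs <;> simp
    obtain ⟨k, hk⟩ : ∃ k : ℕ, k ≤ 1 ∧ Cfsg.classInner (fun g : K => (η.1 : L → ℂ) g)
        (fun g : K => (η'.1 : L → ℂ) g) = k := by
      by_cases h : (fun g : K => (η.1 : L → ℂ) g) = fun g : K => (η'.1 : L → ℂ) g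
      · exact ⟨1, le_rfl, by rw [classInner_irr η.2 η'.2, if_pos h, Nat.cast_one]⟩
      · exact ⟨0, zero_le, by rw [classInner_irr η.2 η'.2, if_neg h, Nat.cast_zero]⟩
    have hk2 : ∑ g : K, (η.1 : L → ℂ) g * conj ((η'.1 : L → ℂ) g) = (Nat.card K : ℂ) * k := by
      have := hk.2
      rwa [Cfsg.classInner, inv_mul_eq_iff_eq_mul₀ (Nat.cast_ne_zero.mpr Nat.card_pos.ne')] at this
    have horth' : ∑ g : L, (η.1 : L → ℂ) g * conj ((η'.1 : L → ℂ) g) = 0 := by
      rw [Cfsg.classInner, mul_eq_zero] at horth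
      exact horth.resolve_left (inv_ne_zero (Nat.cast_ne_zero.mpr Nat.card_pos.ne'))
    simp only [hsplit, Finset.sum_sub_distrib, e1] at hV
    rw [horth', ← Finset.sum_filter, Finset.sum_subtype (p := fun g => g ∈ K) _ (by simp), hk2,
      Finset.sum_ite, Finset.sum_const_zero, Finset.sum_const, nsmul_eq_mul, zero_add] at hV
    have hc : ((Finset.univ.filter fun w : ↥(W₁ ⊔ W₂) => ¬ (w : L) ∈ W₂).card : ℂ) =
        ((Nat.card W₁ : ℂ) - 1) * (Nat.card W₂ : ℂ) := by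
      have hp := Finset.card_filter_add_card_filter_not
        (s := (Finset.univ : Finset ↥(W₁ ⊔ W₂))) (p := fun w : ↥(W₁ ⊔ W₂) => (w : L) ∈ W₂)
      rw [Finset.card_univ, ← Nat.card_eq_fintype_card, ← Nat.card_congr (prodIso D.split).toEquiv,
        Nat.card_prod, show (Finset.univ.filter fun w : ↥(W₁ ⊔ W₂) => (w : L) ∈ W₂) =
          (Finset.univ : Finset W₂).image (inc2 W₁ W₂) by
            ext w
            simp only [Finset.mem_filter, Finset.mem_univ, true_and, Finset.mem_image]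
            exact ⟨fun h => ⟨⟨w, h⟩, rfl⟩, fun ⟨b, hb⟩ => hb ▸ b.2⟩,
        Finset.card_image_of_injective (f := (inc2 W₁ W₂ : W₂ → ↥(W₁ ⊔ W₂))) _
          (fun a b h => Subgroup.inclusion_injective le_sup_right h), Finset.card_univ,
        ← Nat.card_eq_fintype_card] at hp
      have : ((Nat.card W₂ : ℕ) : ℂ) +
          ((Finset.univ.filter fun w : ↥(W₁ ⊔ W₂) => ¬ (w : L) ∈ W₂).card : ℂ) =
          (Nat.card W₁ : ℂ) * (Nat.card W₂ : ℂ) := by exact_mod_cast hp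
      linear_combination this
    rw [hc, ← Subgroup.card_mul_index K, D.index_eq, Nat.cast_mul,
      ← Nat.card_congr (prodIso D.split).toEquiv, Nat.card_prod, Nat.cast_mul] at hV
    have n1 : (Nat.card W₁ : ℂ) ≠ 0 := Nat.cast_ne_zero.mpr Nat.card_pos.ne'
    have n2 : (Nat.card W₂ : ℂ) ≠ 0 := Nat.cast_ne_zero.mpr Nat.card_pos.ne'
    have nK : (Nat.card K : ℂ) ≠ 0 := Nat.cast_ne_zero.mpr Nat.card_pos.ne'
    field_simp at hV
    have hfin : (((Nat.card W₁ : ℤ) - 1) * (d η * d η') + k : ℤ) = 0 := by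
      have : (Nat.card K : ℂ) * ((((Nat.card W₁ : ℤ) - 1) * (d η * d η') + k : ℤ) : ℂ) = 0 := by
        push_cast
        linear_combination -hV
      exact_mod_cast (mul_eq_zero.mp this).resolve_left nK
    have hdd : (d η * d η') * (d η * d η') = 1 := by
      linear_combination (d η' * d η') * hd η + hd η'
    rcases Int.eq_one_or_neg_one_of_mul_eq_one hdd with h | h <;> rw [h] at hfin <;> omega
  haveI : Fintype (↥(W₁ ⊔ W₂) →* ℂˣ) := Fintype.ofFinite _
  have hcard : Nat.card Good = Nat.card (↥(W₁ ⊔ W₂) →* ℂˣ) := by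
    obtain ⟨a, ha, ha1⟩ := (Subgroup.bot_or_exists_ne_one W₁).resolve_left D.ne1
    have hv : ((inc1 W₁ W₂ ⟨a, ha⟩ : ↥(W₁ ⊔ W₂)) : L) ∉ W₂ := fun h => ha1 (by
      have : a ∈ W₁ ⊓ W₂ := ⟨ha, h⟩
      rwa [D.split.disj, Subgroup.mem_bot] at this)
    have horth := column_orth_of_isConj (IsConj.refl ((inc1 W₁ W₂ ⟨a, ha⟩ : ↥(W₁ ⊔ W₂)) : L))
    rw [D.centralizer_V hv] at horth
    haveI : IsMulCommutative ↥(W₁ ⊔ W₂) := ⟨⟨D.comm_W⟩⟩
    rw [card_hom]
    have e : (Nat.card Good : ℂ) = (Nat.card ↥(W₁ ⊔ W₂) : ℂ) := by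
      rw [← horth, Nat.card_eq_fintype_card, Fintype.card_subtype, Finset.card_filter, Nat.cast_sum]
      refine Finset.sum_congr rfl fun χ _ => ?_
      split_ifs with hg
      · rw [hw ⟨χ, hg⟩ _ hv, Complex.mul_conj', norm_mul, Complex.norm_intCast,
          norm_eq_one_of_pow (Nat.card_pos (α := ↥(W₁ ⊔ W₂))).ne']
        · have : |((d ⟨χ, hg⟩ : ℤ) : ℝ)| = 1 := by
            rcases Int.eq_one_or_neg_one_of_mul_eq_one (hd ⟨χ, hg⟩) with h | h <;> simp [h]
          rw [this]; norm_num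
        · rw [← Units.val_pow_eq_pow_val, ← map_pow, pow_card_eq_one', map_one, Units.val_one]
      · rw [hvanish χ hg _ hv]; simp
    exact_mod_cast e
  have hbij : Function.Bijective wt := (Nat.bijective_iff_injective_and_card wt).mpr ⟨hinj, hcard⟩
  let E := Equiv.ofBijective wt hbij
  refine ⟨fun ω => ((E.symm ω).1 : L → ℂ), fun ω => (d (E.symm ω) : ℂ),
    fun a b h => E.symm.injective (Subtype.ext (Subtype.ext h)), fun ω => (E.symm ω).1.2,
    fun ω => ?_, fun ω => (E.symm ω).2, fun ω w hw' => ?_, fun ω f => ?_, fun η hη hg => ?_,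
    fun η hη hne w hw' => ?_⟩
  · rcases Int.eq_one_or_neg_one_of_mul_eq_one (hd (E.symm ω)) with h | h <;> simp [h]
  · have := hw (E.symm ω) w hw'
    rwa [show wt (E.symm ω) = ω from E.apply_symm_apply ω] at this
  · set η := E.symm ω
    obtain ⟨fl, hfl⟩ : ∃ fl : L →* ℂˣ, ∀ g, fl g = f (D.pr g) := ⟨f.comp D.pr, fun g => rfl⟩
    have hirr : Cfsg.IsIrrCharacter L (fun g => (fl g : ℂ) * (η.1 : L → ℂ) g) := by
      refine IsCharacter.isIrr_of_norm_one (IsCharacter.mul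
        (IsIrrCharacter.isCharacter (isIrrCharacter_linear fl))
        (IsIrrCharacter.isCharacter η.1.2)) ?_
      rw [← classInner_self_irr η.1.2]
      simp only [Cfsg.classInner]
      congr 1
      refine Finset.sum_congr rfl fun k _ => ?_
      have hn : ‖(fl k : ℂ)‖ = 1 := by
        refine norm_eq_one_of_pow (Nat.card_pos (α := L)).ne' ?_
        rw [← Units.val_pow_eq_pow_val, ← map_pow, pow_card_eq_one', map_one, Units.val_one]
      rw [Complex.mul_conj', Complex.mul_conj', norm_mul, hn, one_mul]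
    have hres : (fun k : K => (fl (k : L) : ℂ) * (η.1 : L → ℂ) k) = fun k : K => (η.1 : L → ℂ) k :=
      funext fun k => by rw [hfl, (D.pr_eq_one_iff _).mpr k.2, map_one, Units.val_one, one_mul]
    let η' : Good := ⟨⟨_, hirr⟩, by
      show Cfsg.IsIrrCharacter K (fun k : K => (fl (k : L) : ℂ) * (η.1 : L → ℂ) k)
      rw [hres]; exact η.2⟩
    have hsh : ∀ w : ↥(W₁ ⊔ W₂), (w : L) ∉ W₂ →
        (d η : ℂ) * ((pull1 D.split f * ω) w : ℂ) = (d η' : ℂ) * (wt η' w : ℂ) := by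
      intro w hw'
      rw [← hw η' w hw', ← D.ext_V (η := (η.1 : L → ℂ)) (fun v hv => by
        have := hw η v hv
        rwa [show wt η = ω from E.apply_symm_apply ω] at this) f w hw']
      show _ = (fl (w : L) : ℂ) * (η.1 : L → ℂ) w
      rw [hfl]
    obtain ⟨e1, e2⟩ := D.shape_unique hodd (hd0 η) hsh
    have hη' : E.symm (pull1 D.split f * ω) = η' := by
      rw [Equiv.symm_apply_eq]; exact e2
    refine ⟨by show (d (E.symm _) : ℂ) = (d η : ℂ); rw [hη', e1], ?_⟩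
    show ((E.symm _).1 : L → ℂ) = fun g => (f (D.pr g) : ℂ) * (η.1 : L → ℂ) g
    rw [hη']
    funext g
    show (fl g : ℂ) * (η.1 : L → ℂ) g = _
    rw [hfl]
  · exact ⟨wt ⟨⟨η, hη⟩, hg⟩, by
      show ((E.symm (E ⟨⟨η, hη⟩, hg⟩)).1 : L → ℂ) = η
      rw [Equiv.symm_apply_apply]⟩
  · refine hvanish ⟨η, hη⟩ (fun hg => hne (wt ⟨⟨η, hη⟩, hg⟩) ?_) w hw'
    show η = ((E.symm (E ⟨⟨η, hη⟩, hg⟩)).1 : L → ℂ)
    rw [Equiv.symm_apply_apply]

end shape

end Cfsg.Agent.Char.CyclicTI.Semi
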