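import Cfsg.Agent.Lib.Char.CyclicTI.Exist
import Cfsg.Agent.Lib.Char.Fixed
import Cfsg.Agent.Lib.Char.Gallagher
import Cfsg.Agent.Lib.Char.Orbit
import Cfsg.Agent.Lib.Char.ExtensionChar

/-!
# A normal subgroup with a cyclic Hall complement whose elements share their fixed points
-/

set_option linter.style.haveILetI false

namespace Cfsg.Agent.Char.CyclicTI

open scoped ComplexConjugate commutatorElement
open Cfsg.Agent.Char

universe u

variable {L : Type u} [Group L]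

/-- A normal subgroup `K` with cyclic Hall complement `W₁`, all non-identity elements of which have
the same cyclic centraliser `W₂` in `K`. -/
structure Semi (K W₁ W₂ : Subgroup L) : Prop where
  normal : K.Normal
  inf : K ⊓ W₁ = ⊥
  sup : K ⊔ W₁ = ⊤
  ne1 : W₁ ≠ ⊥
  cyc1 : IsCyclic W₁
  hall : Nat.Coprime (Nat.card W₁) W₁.index
  ne2 : W₂ ≠ ⊥
  cyc2 : IsCyclic W₂
  le : W₂ ≤ K
  cent : ∀ x ∈ W₁, x ≠ 1 → K ⊓ Subgroup.centralizer ({x} : Set L) = W₂

namespace Semi

variable {K W₁ W₂ : Subgroup L} [hKn : K.Normal] (D : Semi K W₁ W₂)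
include D

theorem mk_bijective :
    Function.Bijective ((QuotientGroup.mk' K).comp W₁.subtype) := by
  constructor
  · rw [injective_iff_map_eq_one]
    intro a ha
    have : (a : L) ∈ K ⊓ W₁ := ⟨(QuotientGroup.eq_one_iff (a : L)).mp ha, a.2⟩
    rw [D.inf, Subgroup.mem_bot] at this
    exact Subtype.ext this
  · intro q
    obtain ⟨g, rfl⟩ := QuotientGroup.mk_surjective q
    have hg : g ∈ W₁ ⊔ K := by rw [sup_comm, D.sup]; trivial
    obtain ⟨w, hw, k, hk, rfl⟩ := Subgroup.mem_sup_of_normal_right.mp hg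
    exact ⟨⟨w, hw⟩, (QuotientGroup.eq.mpr (by simpa using hk))⟩

/-- The projection onto the complement. -/
noncomputable def pr : L →* W₁ :=
  (MulEquiv.ofBijective _ D.mk_bijective).symm.toMonoidHom.comp (QuotientGroup.mk' K)

theorem pr_coe (w : W₁) : D.pr (w : L) = w := by
  exact (MulEquiv.ofBijective _ D.mk_bijective).symm_apply_apply w

theorem pr_eq_one_iff (g : L) : D.pr g = 1 ↔ g ∈ K := by
  show (MulEquiv.ofBijective _ D.mk_bijective).symm (QuotientGroup.mk g) = 1 ↔ _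
  rw [map_eq_one_iff _ (MulEquiv.injective _), QuotientGroup.eq_one_iff]

theorem decomp' (g : L) : g * (D.pr g : L)⁻¹ ∈ K := by
  rw [← D.pr_eq_one_iff, map_mul, map_inv, D.pr_coe, mul_inv_cancel]

theorem index_eq : K.index = Nat.card W₁ := by
  rw [Subgroup.index_eq_card]
  exact (Nat.card_congr (Equiv.ofBijective _ D.mk_bijective)).symm

theorem card_eq [Finite L] : Nat.card K = W₁.index := by
  have h := K.card_mul_index
  rw [D.index_eq, ← W₁.card_mul_index, mul_comm (Nat.card W₁)] at h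
  exact mul_right_cancel₀ Nat.card_pos.ne' h

theorem coprime [Finite L] : Nat.Coprime (Nat.card W₁) (Nat.card K) := D.card_eq ▸ D.hall

theorem split : Split W₁ W₂ where
  disj := by
    rw [eq_bot_iff, ← D.inf]
    exact fun x hx => ⟨D.le hx.2, hx.1⟩
  comm a ha b hb := by
    by_cases h : a = 1
    · simp [h]
    · have : b ∈ K ⊓ Subgroup.centralizer ({a} : Set L) := by rw [D.cent a ha h]; exact hb
      exact ((Subgroup.mem_centralizer_singleton_iff.mp this.2).symm)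

theorem comm1 : IsMulCommutative W₁ := by
  haveI := D.cyc1
  exact ⟨⟨fun a b => IsCyclic.commGroup.mul_comm a b⟩⟩

theorem comm2 : IsMulCommutative W₂ := by
  haveI := D.cyc2
  exact ⟨⟨fun a b => IsCyclic.commGroup.mul_comm a b⟩⟩

theorem proj1_eq (w : ↥(W₁ ⊔ W₂)) : proj1 D.split w = D.pr (w : L) := by
  conv_rhs => rw [← decomp D.split w, Subgroup.coe_mul, map_mul]
  rw [coe_inc1, coe_inc2, D.pr_coe, (D.pr_eq_one_iff _).mpr (D.le (proj2 D.split w).2), mul_one]

theorem mem_W2_iff (w : ↥(W₁ ⊔ W₂)) : (w : L) ∈ W₂ ↔ (w : L) ∈ K := by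
  rw [← proj1_eq_one_iff D.split, D.proj1_eq, D.pr_eq_one_iff]

theorem comm_W (a b : ↥(W₁ ⊔ W₂)) : a * b = b * a := by
  haveI := D.comm1
  haveI := D.comm2
  refine (prodIso D.split).symm.injective ?_
  rw [map_mul, map_mul]
  exact Prod.ext (mul_comm' _ _) (mul_comm' _ _)

theorem coprime12 [Finite L] : Nat.Coprime (Nat.card W₁) (Nat.card W₂) :=
  D.coprime.coprime_dvd_right (Subgroup.card_dvd_of_le D.le)

theorem isCyclic_W [Finite L] : IsCyclic ↥(W₁ ⊔ W₂) := by
  obtain ⟨a, ha⟩ := IsCyclic.exists_ofOrder_eq_natCard (α := W₁) (h := D.cyc1)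
  obtain ⟨b, hb⟩ := IsCyclic.exists_ofOrder_eq_natCard (α := W₂) (h := D.cyc2)
  refine isCyclic_of_orderOf_eq_card (inc1 W₁ W₂ a * inc2 W₁ W₂ b) ?_
  have ha' : orderOf (inc1 W₁ W₂ a) = Nat.card W₁ :=
    (orderOf_injective _ (Subgroup.inclusion_injective _) a).trans ha
  have hb' : orderOf (inc2 W₁ W₂ b) = Nat.card W₂ :=
    (orderOf_injective _ (Subgroup.inclusion_injective _) b).trans hb
  rw [Commute.orderOf_mul_eq_mul_orderOf_of_coprime (Subtype.ext (D.split.comm _ a.2 _ b.2))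
    (by rw [ha', hb']; exact D.coprime12), ha', hb',
    ← Nat.card_congr (prodIso D.split).toEquiv, Nat.card_prod]

/-- Conjugate elements of `W` outside `W₂` are equal and conjugated only by `W`. -/
theorem conj_eq [Finite L] {w w' : ↥(W₁ ⊔ W₂)} (hw : (w : L) ∉ W₂) {g : L}
    (h : g * w * g⁻¹ = (w' : L)) : g ∈ W₁ ⊔ W₂ ∧ w = w' := by
  haveI := D.comm1
  have hdec : ∀ v : ↥(W₁ ⊔ W₂), (v : L) ^ hallExp D.coprime12 = (proj1 D.split v : L) := fun v =>
    pow_hallExp_eq D.coprime12 (congrArg Subtype.val (decomp D.split v)).symm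
      (D.split.comm _ (proj1 D.split v).2 _ (proj2 D.split v).2)
      (congrArg Subtype.val (pow_card_eq_one' (x := proj1 D.split v)) :)
      (congrArg Subtype.val (pow_card_eq_one' (x := proj2 D.split v)) :)
  have hx : g * (proj1 D.split w : L) * g⁻¹ = (proj1 D.split w' : L) := by
    rw [← hdec, ← hdec, ← h, conj_pow]
  have hxy : proj1 D.split w = proj1 D.split w' := by
    have := congrArg D.pr hx
    rwa [map_mul, map_mul, map_inv, D.pr_coe, D.pr_coe, mul_comm' (D.pr g),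
      mul_inv_cancel_right] at this
  have hx1 : (proj1 D.split w : L) ≠ 1 := fun e =>
    hw ((proj1_eq_one_iff D.split w).mp (Subtype.ext e))
  have hg : g ∈ W₁ ⊔ W₂ := by
    have hk : g * (D.pr g : L)⁻¹ ∈ K ⊓ Subgroup.centralizer ({(proj1 D.split w : L)} : Set L) := by
      refine ⟨D.decomp' g, Subgroup.mem_centralizer_singleton_iff.mpr ?_⟩
      have hc : (D.pr g : L)⁻¹ * (proj1 D.split w : L) = (proj1 D.split w : L) * (D.pr g : L)⁻¹ :=
        congrArg Subtype.val (mul_comm' (D.pr g)⁻¹ (proj1 D.split w))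
      rw [← hxy] at hx
      have hx' : g * (proj1 D.split w : L) = (proj1 D.split w : L) * g :=
        mul_inv_eq_iff_eq_mul.mp hx
      calc g * (D.pr g : L)⁻¹ * (proj1 D.split w : L)
          = g * (proj1 D.split w : L) * (D.pr g : L)⁻¹ := by rw [mul_assoc, hc, ← mul_assoc]
        _ = (proj1 D.split w : L) * (g * (D.pr g : L)⁻¹) := by rw [hx', mul_assoc]
    rw [D.cent _ (proj1 D.split w).2 hx1] at hk
    have := (W₁ ⊔ W₂).mul_mem (le_sup_right (a := W₁) hk) (le_sup_left (b := W₂) (D.pr g).2)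
    simpa using this
  refine ⟨hg, Subtype.ext ?_⟩
  rw [← h, show g * (w : L) * g⁻¹ = ((⟨g, hg⟩ * w * (⟨g, hg⟩ : ↥(W₁ ⊔ W₂))⁻¹ : ↥(W₁ ⊔ W₂)) : L)
    from rfl, D.comm_W ⟨g, hg⟩ w, mul_inv_cancel_right]

theorem selfNormalizing [Finite L] : Cfsg.IsSelfNormalizingCyclic W₁ W₂ := by
  refine ⟨D.ne1, D.ne2, D.split.disj, D.split.comm, D.isCyclic_W, fun X hX hne => ?_⟩
  ext g
  constructor
  · intro hg
    obtain ⟨x, hx⟩ := hne
    have hx' := hX hx
    have hy := hX ((Subgroup.mem_set_normalizer_iff.mp hg x).mp hx)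
    exact (D.conj_eq (w := ⟨x, hx'.1⟩) (w' := ⟨_, hy.1⟩) (fun e => hx'.2 (Or.inr e)) rfl).1
  · intro hg
    rw [Subgroup.mem_set_normalizer_iff]
    have key : ∀ (a : L), a ∈ W₁ ⊔ W₂ → g * a * g⁻¹ = a := fun a ha => by
      have := congrArg Subtype.val (D.comm_W ⟨g, hg⟩ ⟨a, ha⟩)
      exact mul_inv_eq_iff_eq_mul.mpr this
    intro n
    constructor
    · intro hn
      rwa [key n (hX hn).1]
    · intro hn
      have := key _ (hX hn).1
      have e : g * n * g⁻¹ = n := mul_left_cancel (mul_right_cancel this)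
      rwa [e] at hn

theorem exists_conj [Finite L] {g : L} (hg : g ∉ K) :
    ∃ (t : L) (v : ↥(W₁ ⊔ W₂)), (v : L) ∉ W₂ ∧ g = t * v * t⁻¹ := by
  obtain ⟨y, -, c, hc, hcx, hyc⟩ := exists_coprime_conj K (g := (D.pr g : L))
    (by rw [Subgroup.normalizer_eq_top]; trivial)
    (D.coprime.coprime_dvd_left (Subgroup.orderOf_dvd_natCard W₁ (D.pr g).2)) (D.decomp' g)
  have hx1 : (D.pr g : L) ≠ 1 := fun e => hg ((D.pr_eq_one_iff g).mp (Subtype.ext e))
  have hc2 : c ∈ W₂ := by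
    rw [← D.cent _ (D.pr g).2 hx1]
    exact ⟨hc, Subgroup.mem_centralizer_singleton_iff.mpr hcx⟩
  refine ⟨y⁻¹, ⟨c * (D.pr g : L), (W₁ ⊔ W₂).mul_mem (le_sup_right (a := W₁) hc2)
    (le_sup_left (b := W₂) (D.pr g).2)⟩, fun h => hx1 ?_, ?_⟩
  · have hm : (D.pr g : L) ∈ K ⊓ W₁ := ⟨D.le (by simpa using W₂.mul_mem (W₂.inv_mem hc2) h),
      (D.pr g).2⟩
    rwa [D.inf, Subgroup.mem_bot] at hm
  · show g = y⁻¹ * (c * (D.pr g : L)) * y⁻¹⁻¹
    rw [← hyc]; group

theorem centralizer_V [Finite L] {v : ↥(W₁ ⊔ W₂)} (hv : (v : L) ∉ W₂) :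
    Subgroup.centralizer ({(v : L)} : Set L) = W₁ ⊔ W₂ := by
  ext g
  rw [Subgroup.mem_centralizer_singleton_iff]
  constructor
  · exact fun h => (D.conj_eq (w := v) (w' := v) hv (mul_inv_eq_iff_eq_mul.mpr h)).1
  · exact fun h => congrArg Subtype.val (D.comm_W ⟨g, h⟩ v)

variable [Fintype L]

theorem ind_V {β : ↥(W₁ ⊔ W₂) → ℂ} (hβ : ∀ w : ↥(W₁ ⊔ W₂), (w : L) ∈ W₂ → β w = 0)
    {v : ↥(W₁ ⊔ W₂)} (hv : (v : L) ∉ W₂) : Cfsg.indFun (W₁ ⊔ W₂) β v = β v := by
  classical
  rw [indFun_apply, Finset.sum_congr rfl (g := fun x : L => if x ∈ W₁ ⊔ W₂ then β v else 0)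
    fun x _ => ?_]
  · rw [← Finset.sum_filter, Finset.sum_const, nsmul_eq_mul, ← Fintype.card_subtype,
      ← Nat.card_eq_fintype_card, inv_mul_cancel_left₀ (Nat.cast_ne_zero.mpr Nat.card_pos.ne')]
  · split_ifs with hx
    · have e : x⁻¹ * (v : L) * x = v := by
        have := congrArg Subtype.val (D.comm_W ⟨x, hx⟩ v)
        rw [mul_assoc, inv_mul_eq_iff_eq_mul]
        exact this.symm
      rw [e, extendByZero_coe]
    · by_cases hm : x⁻¹ * (v : L) * x ∈ W₁ ⊔ W₂
      · exfalso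
        refine hx ?_
        have := (D.conj_eq (w := v) (w' := ⟨_, hm⟩) hv (g := x⁻¹) (by rw [inv_inv])).1
        simpa using (W₁ ⊔ W₂).inv_mem this
      · exact extendByZero_not_mem _ _ hm

theorem ind_K {β : ↥(W₁ ⊔ W₂) → ℂ} (hβ : ∀ w : ↥(W₁ ⊔ W₂), (w : L) ∈ W₂ → β w = 0)
    {g : L} (hg : g ∈ K) : Cfsg.indFun (W₁ ⊔ W₂) β g = 0 := by
  rw [indFun_apply, Finset.sum_eq_zero, mul_zero]
  intro x _
  by_cases hm : x⁻¹ * g * x ∈ W₁ ⊔ W₂
  · rw [extendByZero_mem _ _ hm]
    exact hβ _ ((D.mem_W2_iff _).mpr (by simpa using hKn.conj_mem g hg x⁻¹))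
  · exact extendByZero_not_mem _ _ hm

theorem sum_off {f : L → ℂ} (hf : Cfsg.IsClassFunction L f) [Fintype ↥(W₁ ⊔ W₂)]
    [DecidablePred (· ∈ K)] [DecidablePred (· ∈ W₂)] :
    (Nat.card L : ℂ)⁻¹ * ∑ g : L, (if g ∈ K then 0 else f g) =
      (Nat.card ↥(W₁ ⊔ W₂) : ℂ)⁻¹ * ∑ w : ↥(W₁ ⊔ W₂), (if (w : L) ∈ W₂ then 0 else f w) := by
  classical
  set β : ↥(W₁ ⊔ W₂) → ℂ := fun w => if (w : L) ∈ W₂ then 0 else f w
  have hβ : ∀ w : ↥(W₁ ⊔ W₂), (w : L) ∈ W₂ → β w = 0 := fun w hw => if_pos hw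
  have h := classInner_indFun_left (W₁ ⊔ W₂) β (χ := fun _ => (1 : ℂ)) (fun _ _ => rfl)
  simp only [Cfsg.classInner, map_one, mul_one] at h
  rw [← h]
  congr 1
  refine Finset.sum_congr rfl fun g _ => ?_
  split_ifs with hg
  · exact (D.ind_K hβ hg).symm
  · obtain ⟨t, v, hv, rfl⟩ := D.exists_conj hg
    rw [isClassFunction_indFun (W₁ ⊔ W₂) β v t, D.ind_V hβ hv, hf v t]
    exact (if_neg hv).symm

end Semi

/-- Integers with small total variation are constant off one index. -/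
theorem one_off {A : Type*} [Fintype A] (hA : 3 ≤ Fintype.card A) (a : A → ℤ) :
    (∀ i j, a i = a j) ∨
      ((Fintype.card A : ℤ) - 1 ≤ Fintype.card A * (∑ i, a i * a i) - (∑ i, a i) * (∑ i, a i) ∧
        ((Fintype.card A : ℤ) - 1 = Fintype.card A * (∑ i, a i * a i) - (∑ i, a i) * (∑ i, a i) →
          ∃ (i₀ : A) (c δ : ℤ), δ * δ = 1 ∧ (∀ i, i ≠ i₀ → a i = c) ∧ a i₀ = c + δ)) := by
  classical
  by_cases hconst : ∀ i j, a i = a j
  · exact Or.inl hconst
  push Not at hconst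
  obtain ⟨p, q, hpq⟩ := hconst
  refine Or.inr ?_
  set s := (Finset.univ.erase p).erase q
  have hne : p ≠ q := fun h => hpq (h ▸ rfl)
  have hq : q ∈ Finset.univ.erase p := Finset.mem_erase.mpr ⟨hne.symm, Finset.mem_univ q⟩
  have hsplit : ∀ F : A → ℤ, ∑ i, F i = F p + (F q + ∑ i ∈ s, F i) := fun F => by
    rw [← Finset.add_sum_erase _ _ (Finset.mem_univ p), ← Finset.add_sum_erase _ _ hq]
  have hcs : (s.card : ℤ) = (Fintype.card A : ℤ) - 2 := by
    rw [Finset.card_erase_of_mem hq, Finset.card_erase_of_mem (Finset.mem_univ p), Finset.card_univ]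
    omega
  set T := ∑ i ∈ s, ∑ j ∈ s, (a i - a j) * (a i - a j)
  have hT : T = 2 * ((s.card : ℤ) * (∑ i ∈ s, a i * a i) - (∑ i ∈ s, a i) * (∑ i ∈ s, a i)) := by
    have : ∀ i j, (a i - a j) * (a i - a j) = a i * a i - 2 * (a i * a j) + a j * a j := by
      intro i j; ring
    simp only [T, this, Finset.sum_add_distrib, Finset.sum_sub_distrib, Finset.sum_const,
      nsmul_eq_mul, ← Finset.mul_sum, ← Finset.sum_mul]
    push_cast
    ring
  set P := ∑ i ∈ s, ((a i - a p) * (a i - a p) + (a i - a q) * (a i - a q))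
  have hP : P = 2 * (∑ i ∈ s, a i * a i) - 2 * (a p + a q) * (∑ i ∈ s, a i) +
      (s.card : ℤ) * (a p * a p + a q * a q) := by
    have : ∀ i, (a i - a p) * (a i - a p) + (a i - a q) * (a i - a q) =
        2 * (a i * a i) - 2 * (a p + a q) * a i + (a p * a p + a q * a q) := by intro i; ring
    simp only [P]
    rw [Finset.sum_congr rfl fun i _ => this i]
    simp only [Finset.sum_add_distrib, Finset.sum_sub_distrib, Finset.sum_const,
      nsmul_eq_mul, ← Finset.mul_sum]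
    ring
  have hmain : 2 * ((Fintype.card A : ℤ) * (∑ i, a i * a i) - (∑ i, a i) * (∑ i, a i)) =
      2 * ((a p - a q) * (a p - a q)) + 2 * P + T := by
    rw [hsplit a, hsplit (fun i => a i * a i), hT, hP, hcs]
    ring
  have h1 : 1 ≤ (a p - a q) * (a p - a q) := by
    have : 0 < (a p - a q) * (a p - a q) := mul_self_pos.mpr (sub_ne_zero.mpr hpq)
    omega
  have hterm : ∀ i ∈ s, 1 ≤ (a i - a p) * (a i - a p) + (a i - a q) * (a i - a q) := by
    intro i _
    by_contra h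
    have e1 := mul_self_nonneg (a i - a p)
    have e2 := mul_self_nonneg (a i - a q)
    have z1 : a i - a p = 0 := mul_self_eq_zero.mp (by omega)
    have z2 : a i - a q = 0 := mul_self_eq_zero.mp (by omega)
    exact hpq (by omega)
  have h2 : (s.card : ℤ) ≤ P := by
    have := Finset.sum_le_sum hterm
    simpa using this
  have h3 : 0 ≤ T := Finset.sum_nonneg fun i _ => Finset.sum_nonneg fun j _ => mul_self_nonneg _
  refine ⟨by omega, fun heq => ?_⟩
  have hTz : T = 0 := by omega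
  have hd : (a p - a q) * (a p - a q) = 1 := by omega
  have hPc : P = s.card := by omega
  have hall : ∀ i ∈ s, ∀ j ∈ s, a i = a j := fun i hi j hj => by
    have e1 := (Finset.sum_eq_zero_iff_of_nonneg fun i _ =>
      Finset.sum_nonneg fun j _ => mul_self_nonneg _).mp hTz i hi
    have e2 := (Finset.sum_eq_zero_iff_of_nonneg fun j _ => mul_self_nonneg _).mp e1 j hj
    exact sub_eq_zero.mp (mul_self_eq_zero.mp e2)
  obtain ⟨k, hk⟩ : s.Nonempty := Finset.card_pos.mp (by omega)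
  have hone : (a k - a p) * (a k - a p) + (a k - a q) * (a k - a q) = 1 := by
    refine le_antisymm ?_ (hterm k hk)
    by_contra h
    push Not at h
    have := Finset.sum_lt_sum hterm ⟨k, hk, h⟩
    simp only [Finset.sum_const, nsmul_eq_mul, mul_one] at this
    omega
  have hcase : a k = a p ∨ a k = a q := by
    by_contra h
    push Not at h
    have e1 : 0 < (a k - a p) * (a k - a p) := mul_self_pos.mpr (sub_ne_zero.mpr h.1)
    have e2 : 0 < (a k - a q) * (a k - a q) := mul_self_pos.mpr (sub_ne_zero.mpr h.2)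
    omega
  rcases hcase with h | h
  · refine ⟨q, a p, a q - a p, by linear_combination hd, fun i hi => ?_, by ring⟩
    by_cases hip : i = p
    · rw [hip]
    · rw [hall i (Finset.mem_erase.mpr ⟨hi, Finset.mem_erase.mpr ⟨hip, Finset.mem_univ i⟩⟩) k hk, h]
  · refine ⟨p, a q, a p - a q, hd, fun i hi => ?_, by ring⟩
    by_cases hiq : i = q
    · rw [hiq]
    · rw [hall i (Finset.mem_erase.mpr ⟨hiq, Finset.mem_erase.mpr ⟨hi, Finset.mem_univ i⟩⟩) k hk, h]

end Cfsg.Agent.Char.CyclicTI
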